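import Cfsg.Agent.Lib.TwoFusion.AbelianFactor.Local

/-!
Owner: helper2.  With trivial core the first class centralises the abelian factor.
-/

set_option autoImplicit false
set_option linter.style.haveILetI false
set_option linter.unusedSectionVars false

namespace CfsgLib.TwoFusion.AbelianFactor

open Subgroup Cfsg
open CfsgLib.Signalizer (involution_sq involution_inv involution_ne_one orderOf_eq_two_of orderOf_conj)
open CfsgLib.TwoFusion.DihedralProduct (involClass involClass_conj commute_of_sq central_of_isolated)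
open CfsgLib.FTDep (coreCent coreCent_le coreCent_norm coreCent_odd)
open CfsgLib.Bender (BenderGen)
open scoped commutatorElement

universe u

variable {G : Type u} [Group G] [Finite G]

/-- An odd subgroup normalised by a normal subgroup of a coreless group meets it trivially. -/
theorem inf_normal_eq_bot (hO : oddCore G = ⊥) {X N : Subgroup G} [N.Normal] (hX : Odd (Nat.card X))
    (hn : N ≤ normalizer (X : Set G)) : X ⊓ N = ⊥ := by
  haveI : Fact (Nat.Prime 2) := ⟨Nat.prime_two⟩
  haveI : ((X ⊓ N).subgroupOf N).Normal := (normal_subgroupOf_iff_le_normalizer inf_le_right).2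
    ((le_inf hn le_normalizer).trans inf_normalizer_le_normalizer_inf)
  have h1 : (X ⊓ N).subgroupOf N ≤ oddCore N := CfsgLib.ZStar.le_oddCore inferInstance (by
    rw [Nat.card_congr (subgroupOfEquivOfLe inf_le_right).toEquiv]
    exact hX.of_dvd_nat (card_dvd_of_le inf_le_left))
  have h2 := CfsgLib.Core.map_subtype_pPrimeCore_le (p := 2) N
  rw [← subgroupOf_map_subtype]
  refine le_bot_iff.1 ((map_mono (?_ : X.subgroupOf N ≤ oddCore N)).trans (h2.trans hO.le))
  exact fun v hv => h1 (mem_subgroupOf.2 ⟨mem_subgroupOf.1 hv, v.2⟩)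

theorem normal_closure_class (D : Subgroup G) : (closure (involClass D)).Normal := ⟨fun v hv g => by
  have hle : (closure (involClass D)).map (MulAut.conj g).toMonoidHom ≤ closure (involClass D) := by
    rw [MonoidHom.map_closure]
    refine closure_mono ?_
    rintro _ ⟨w, hw, rfl⟩
    exact involClass_conj hw g
  exact hle (mem_map_of_mem _ hv)⟩

namespace Base

variable {S : Sylow 2 G} {D W : Subgroup G} {z b : G} (B : Base S D W z b)

include B

/-- A class in `M` centralises `Wn z b`. -/
theorem class_centralizes (hO : oddCore G = ⊥) {E : Subgroup G} (h : ∀ x ∈ involClass E, x ∈ bigN z b)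
    {x : G} (hx : x ∈ involClass E) {w : G} (hw : w ∈ Wn z b) : Commute x w := by
  haveI := normal_closure_class E
  have hbot := inf_normal_eq_bot hO B.odd_Wn ((closure_le _).2 fun v hv => h v hv :
    closure (involClass E) ≤ normalizer (Wn z b : Set G))
  have hxN : x ∈ closure (involClass E) := subset_closure hx
  have hm : ⁅x, w⁆ ∈ Wn z b ⊓ closure (involClass E) := by
    refine ⟨?_, ?_⟩
    · rw [commutatorElement_def]
      exact Subgroup.mul_mem _ ((mem_normalizer_iff.1 (h x hx) w).1 hw) (Subgroup.inv_mem _ hw)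
    · rw [commutatorElement_def, mul_assoc x w, mul_assoc]
      exact mul_mem hxN ((normal_closure_class E).conj_mem _ (inv_mem hxN) w)
  rw [hbot, mem_bot] at hm
  exact commutatorElement_eq_one_iff_mul_comm.1 hm

/-- A commuting pair centralises the core of the centraliser of its product. -/
theorem commute_core (hB : BenderGen.{u}) (hO : oddCore G = ⊥) {a c : G} (ha : a ∈ involClass D)
    (hc : c ∈ involClass W) (hac : Commute a c) {u : G} (hu : u ∈ coreCent ({a * c} : Set G)) :
    Commute u a := by
  obtain ⟨g, hga, hgc⟩ := B.fib.conj_pair ha hc hac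
  have hga2 : orderOf (g * a * g⁻¹) = 2 := (orderOf_conj g a).trans ha.1
  have hgc2 : orderOf (g * c * g⁻¹) = 2 := (orderOf_conj g c).trans hc.1
  have heq : ⁅u, a⁆ = ⁅u, c⁆ := commutator_eq_of_mixed (involution_sq ha.1) (involution_sq hc.1) hu
  have hmemW : ⁅u, a⁆ ∈ Wn a c := heq ▸ mem_sup_right (commutator_mem_commutator hu (mem_zpowers c))
  have hW : (MulAut.conj g) ⁅u, a⁆ ∈ Wn z b := by
    have h1 := mem_map_of_mem (MulAut.conj g).toMonoidHom hmemW
    rw [map_Wn, B.wn_base hga hga2 hgc hgc2] at h1
    exact h1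
  have hinvol : ∀ v : G, orderOf v = 2 → v * ⁅u, v⁆ * v⁻¹ = ⁅u, v⁆⁻¹ := fun v hv => by
    rw [commutatorElement_def, involution_inv hv]
    simp only [mul_inv_rev, inv_inv, involution_inv hv, mul_assoc, involution_sq hv, mul_one]
  have key : ∃ v, orderOf v = 2 ∧ Commute v ⁅u, v⁆ ∧ ⁅u, v⁆ = ⁅u, a⁆ := by
    rcases B.class_le hB with h | h
    · exact ⟨a, ha.1, (MulAut.conj g).injective (by
        rw [map_mul, map_mul]
        exact B.class_centralizes hO h (involClass_conj ha g) hW), rfl⟩
    · refine ⟨c, hc.1, ?_, heq.symm⟩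
      rw [← heq]
      exact (MulAut.conj g).injective (by
        rw [map_mul, map_mul]
        exact B.class_centralizes hO h (involClass_conj hc g) hW)
  obtain ⟨v, hv, hvc, hve⟩ := key
  have hsq : ⁅u, a⁆ * ⁅u, a⁆ = 1 := by
    rw [← hve]
    have h := hinvol v hv
    rw [hvc.eq, mul_inv_cancel_right] at h
    exact mul_eq_one_iff_eq_inv.2 h
  have hmem : ⁅u, a⁆ ∈ coreCent ({a * c} : Set G) := by
    have haC : a ∈ normalizer (coreCent ({a * c} : Set G) : Set G) :=
      coreCent_norm _ (mem_centralizer_singleton_iff.2 ((Commute.refl a).mul_right hac).eq)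
    rw [commutatorElement_def, mul_assoc u a, mul_assoc]
    exact mul_mem hu ((mem_normalizer_iff.1 haC _).1 (inv_mem hu))
  have h2 : ⁅u, a⁆ = 1 := by
    by_contra hne
    have := (coreCent_odd _).of_dvd_nat (Subgroup.orderOf_dvd_natCard _ hmem)
    rw [orderOf_eq_two_of hne hsq] at this
    exact absurd this (by decide)
  exact commutatorElement_eq_one_iff_mul_comm.1 h2

/-- The two classes commute elementwise. -/
theorem commute_classes (hB : BenderGen.{u}) (hO : oddCore G = ⊥) {x y : G} (hx : x ∈ involClass D)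
    (hy : y ∈ involClass W) : Commute x y := by
  obtain ⟨q, hq, hord, ⟨hx', hc, hcx⟩, -⟩ := B.fib.pair_twice_odd hx hy
  have hx2 := involution_sq hx.1
  have hy2 := involution_sq hy.1
  set r := x * y with hr
  set x' := r ^ q * y with hx'def
  have hxi : x' * y = r ^ q := by rw [hx'def, mul_assoc, hy2, mul_one]
  have hrc : Commute r (x' * y) := hxi ▸ (Commute.refl r).pow_right q
  have hmem := B.fib.isolated hx' hy hc hrc
  have hyr : y * r * y = r⁻¹ := by
    rw [hr, mul_inv_rev, involution_inv hx.1, involution_inv hy.1, mul_assoc, mul_assoc, hy2, mul_one]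
  have hinv : x' * r * x'⁻¹ = r⁻¹ := by
    rw [hx'def, mul_inv_rev, involution_inv hy.1]
    calc r ^ q * y * r * (y * (r ^ q)⁻¹) = r ^ q * (y * r * y) * (r ^ q)⁻¹ := by group
      _ = r⁻¹ := by
        rw [hyr, ((Commute.refl r).pow_left q).inv_right.eq, mul_inv_cancel_right]
  rw [hinv] at hmem
  set v := r⁻¹ * r⁻¹ with hvdef
  have hcv := B.commute_core hB hO hx' hy hc hmem
  have hv2 : v * v = 1 := by
    have h1 : x' * v * x'⁻¹ = v⁻¹ := by
      rw [hvdef, show x' * (r⁻¹ * r⁻¹) * x'⁻¹ = (x' * r * x'⁻¹)⁻¹ * (x' * r * x'⁻¹)⁻¹ by group, hinv]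
      exact (mul_inv_rev r⁻¹ r⁻¹).symm
    rw [← hcv.eq, mul_inv_cancel_right] at h1
    exact mul_eq_one_iff_eq_inv.2 h1
  have hv1 : v = 1 := by
    by_contra hne
    have := (coreCent_odd _).of_dvd_nat (Subgroup.orderOf_dvd_natCard _ hmem)
    rw [orderOf_eq_two_of hne hv2] at this
    exact absurd this (by decide)
  refine commute_of_sq hx2 hy2 ?_
  have := congrArg (·⁻¹) hv1
  simpa [hvdef, mul_inv_rev] using this

end Base

/-- The first class centralises the second factor. -/
theorem class_commute (hB : BenderGen.{u}) : ∀ n : ℕ, Below.{u} n := by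
  intro n
  induction n using Nat.strong_induction_on with
  | _ n ihn =>
    intro H _ _ hlt S D W F hO x hx w hw
    haveI : Fact (Nat.Prime 2) := ⟨Nat.prime_two⟩
    have ih : Below.{u} (Nat.card H) := ihn _ hlt
    by_cases hW : ∀ y ∈ W, orderOf y ≠ 2
    · have hbot : W = ⊥ := by
        by_contra hne
        obtain ⟨y, hy, hy2⟩ := CfsgLib.Signalizer.exists_involution_of_two_group F.pgroup₂ hne
        exact hW y hy hy2
      rw [hbot, mem_bot] at hw
      rw [hw]; exact Commute.one_right _
    push Not at hW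
    obtain ⟨y, hy, hy2⟩ := hW
    by_cases huniq : ∀ y' ∈ W, orderOf y' = 2 → y' = y
    · -- an isolated involution is central
      have hyc : y ∈ center H := central_of_isolated hO S hy2 (F.le₂ hy) fun g hg =>
        huniq _ (F.conj_right (F.mem_class₂ hy hy2) hg) ((orderOf_conj g y).trans hy2)
      have h := F.local_comm ih hy hy2 hx (mem_center_iff.1 hyc x) hw
      haveI : (coreCent ({y} : Set H)).Normal := by
        refine ⟨fun v hv g => (mem_normalizer_iff.1 (coreCent_norm _
          (mem_centralizer_singleton_iff.2 (mem_center_iff.1 hyc g))) v).1 hv⟩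
      have hbot : coreCent ({y} : Set H) = ⊥ :=
        le_bot_iff.1 (hO ▸ CfsgLib.ZStar.le_oddCore inferInstance (coreCent_odd _))
      rw [hbot, mem_bot, mul_inv_eq_one, mul_inv_eq_iff_eq_mul] at h
      exact h
    push Not at huniq
    obtain ⟨y₁, hy₁, hy₁2, hne⟩ := huniq
    have two : ∀ a ∈ W, orderOf a = 2 → ∃ a' ∈ W, orderOf a' = 2 ∧ a' ≠ a := fun a _ _ => by
      by_cases hay : a = y
      · exact ⟨y₁, hy₁, hy₁2, hay ▸ hne⟩
      · exact ⟨y, hy, hy2, Ne.symm hay⟩
    obtain ⟨z, hz, hz2, hzc⟩ := F.good.exists_central F.pgroup₁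
    have B : Base S D W z y := ⟨F, ih, two, hz, hz2, hzc, hy, hy2⟩
    have hyI := F.mem_class₂ hy hy2
    have hxy : Commute x y := B.commute_classes hB hO hx hyI
    haveI := normal_closure_class D
    have hNC : closure (involClass D) ≤ centralizer ({y} : Set H) := (closure_le _).2 fun v hv =>
      mem_centralizer_singleton_iff.2 (B.commute_classes hB hO hv hyI).eq
    have hbot := inf_normal_eq_bot hO (coreCent_odd ({y} : Set H)) (hNC.trans (coreCent_norm _))
    have h1 : x * w * x⁻¹ * w⁻¹ ∈ coreCent ({y} : Set H) ⊓ closure (involClass D) := by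
      refine ⟨F.local_comm ih hy hy2 hx hxy hw, ?_⟩
      have hxN : x ∈ closure (involClass D) := subset_closure hx
      rw [mul_assoc x w, mul_assoc]
      exact mul_mem hxN ((normal_closure_class D).conj_mem _ (inv_mem hxN) w)
    rw [hbot, mem_bot, mul_inv_eq_one, mul_inv_eq_iff_eq_mul] at h1
    exact h1

/-- A simple group has no such Sylow subgroup with nontrivial abelian factor. -/
theorem factor_eq_bot_of_simple (hB : BenderGen.{u}) [IsSimpleGroup G] (hnc : center G = ⊥)
    {S : Sylow 2 G} {D W : Subgroup G} (F : Fib S D W) : W = ⊥ := by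
  haveI : Fact (Nat.Prime 2) := ⟨Nat.prime_two⟩
  obtain ⟨z, hz, hz2, -⟩ := F.good.exists_central F.pgroup₁
  have hO : oddCore G = ⊥ := by
    refine (IsSimpleGroup.eq_bot_or_eq_top_of_normal _ inferInstance).resolve_right fun h => ?_
    have h1 := (CfsgLib.ZStar.odd_card_oddCore G).of_dvd_nat
      (Subgroup.orderOf_dvd_natCard (oddCore G) (h ▸ mem_top z : z ∈ oddCore G))
    rw [hz2] at h1
    exact absurd h1 (by decide)
  haveI := normal_closure_class D
  have hzN : z ∈ closure (involClass D) := subset_closure (F.mem_class₁ hz hz2)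
  have htop : closure (involClass D) = ⊤ :=
    (IsSimpleGroup.eq_bot_or_eq_top_of_normal _ inferInstance).resolve_left fun h =>
      involution_ne_one hz2 (mem_bot.1 (h ▸ hzN))
  refine (eq_bot_iff_forall _).2 fun w hw => ?_
  have hle : closure (involClass D) ≤ centralizer ({w} : Set G) := (closure_le _).2 fun x hx =>
    mem_centralizer_singleton_iff.2
      (class_commute hB (Nat.card G + 1) G (Nat.lt_succ_self _) S D W F hO x hx w hw).eq
  have hc : w ∈ center G := mem_center_iff.2 fun g =>
    mem_centralizer_singleton_iff.1 (hle (htop ▸ mem_top g))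
  rwa [hnc, mem_bot] at hc

end CfsgLib.TwoFusion.AbelianFactor
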