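import Cfsg.Agent.Lib.TwoFusion.AbelianFactor.Functor

/-!
Owner: helper2.  The subgroup `M = N(Wn z b)` of a central pair.
-/

set_option autoImplicit false
set_option linter.style.haveILetI false
set_option linter.unusedSectionVars false

namespace CfsgLib.TwoFusion.AbelianFactor

open Subgroup Cfsg
open CfsgLib.Signalizer (involution_sq involution_inv involution_ne_one orderOf_eq_two_of orderOf_conj)
open CfsgLib.TwoFusion.DihedralProduct (involClass involClass_conj isPGroup_pair exists_conj_into map_eq_iff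
  norm_coreCent coprime_two_group Pc)
open CfsgLib.FTDep (coreCent coreCent_le coreCent_norm coreCent_odd)
open scoped commutatorElement

universe u

variable {G : Type u} [Group G] [Finite G]

/-- A central involution in each factor, the second one of rank at least two. -/
structure Base (S : Sylow 2 G) (D W : Subgroup G) (z b : G) : Prop where
  fib : Fib S D W
  ih : Below.{u} (Nat.card G)
  two : ∀ y ∈ W, orderOf y = 2 → ∃ y' ∈ W, orderOf y' = 2 ∧ y' ≠ y
  mem₁ : z ∈ D
  ord₁ : orderOf z = 2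
  cen₁ : ∀ d ∈ D, Commute d z
  mem₂ : b ∈ W
  ord₂ : orderOf b = 2

/-- The subgroup `M`. -/
abbrev bigN (z b : G) : Subgroup G := normalizer (Wn z b : Set G)

namespace Base

variable {S : Sylow 2 G} {D W : Subgroup G} {z b : G} (B : Base S D W z b)

include B

theorem in₁ : z ∈ involClass D := B.fib.mem_class₁ B.mem₁ B.ord₁

theorem in₂ : b ∈ involClass W := B.fib.mem_class₂ B.mem₂ B.ord₂

theorem sylow_le : (S : Subgroup G) ≤ bigN z b := by
  intro s hs
  obtain ⟨u, hu, v, hv, rfl⟩ := B.fib.exists_mul hs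
  have h1 : Commute (u * v) z := (B.cen₁ u hu).mul_left (B.fib.commute B.mem₁ hv).symm
  have h2 : Commute (u * v) b := B.fib.central₂ B.mem₂ (mul_mem (B.fib.le₁ hu) (B.fib.le₂ hv))
  refine map_eq_iff.1 ?_
  rw [map_Wn, h1.eq, h2.eq, mul_inv_cancel_right, mul_inv_cancel_right]

theorem wn_left {x y : G} (hx : x ∈ D) (hx2 : orderOf x = 2) (hy : y ∈ W) (hy2 : orderOf y = 2) :
    Wn x y = Wn z y := by
  by_cases hxz : x = z
  · rw [hxz]
  obtain ⟨y', hy', hy'2, hne⟩ := B.two y hy hy2
  obtain ⟨W₀, -, hW, -⟩ := B.fib.exists_W B.ih hx hx2 B.mem₁ B.ord₁ hxz (B.cen₁ x hx) hy hy2 hy' hy'2 hne.symm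
  rw [hW x (subset_closure (Or.inl rfl)) (involution_ne_one hx2) y (subset_closure (Or.inl rfl))
      (involution_ne_one hy2),
    hW z (subset_closure (Or.inr rfl)) (involution_ne_one B.ord₁) y (subset_closure (Or.inl rfl))
      (involution_ne_one hy2)]

theorem wn_right {y : G} (hy : y ∈ W) (hy2 : orderOf y = 2) : Wn z y = Wn z b := by
  by_cases hyb : y = b
  · rw [hyb]
  obtain ⟨z', hz', hz'2, hne, hc⟩ := B.fib.good.exists_partner B.fib.pgroup₁ B.mem₁ B.ord₁
  obtain ⟨W₀, -, hW, -⟩ := B.fib.exists_W B.ih B.mem₁ B.ord₁ hz' hz'2 hne.symm hc hy hy2 B.mem₂ B.ord₂ hyb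
  rw [hW z (subset_closure (Or.inl rfl)) (involution_ne_one B.ord₁) y (subset_closure (Or.inl rfl))
      (involution_ne_one hy2),
    hW z (subset_closure (Or.inl rfl)) (involution_ne_one B.ord₁) b (subset_closure (Or.inr rfl))
      (involution_ne_one B.ord₂)]

theorem wn_base {x y : G} (hx : x ∈ D) (hx2 : orderOf x = 2) (hy : y ∈ W) (hy2 : orderOf y = 2) :
    Wn x y = Wn z b := by rw [B.wn_left hx hx2 hy hy2, B.wn_right hy hy2]

theorem odd_Wn : Odd (Nat.card (Wn z b)) := by
  obtain ⟨z', hz', hz'2, hne, hc⟩ := B.fib.good.exists_partner B.fib.pgroup₁ B.mem₁ B.ord₁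
  obtain ⟨y', hy', hy'2, hne'⟩ := B.two b B.mem₂ B.ord₂
  obtain ⟨W₀, hodd, hW, -⟩ :=
    B.fib.exists_W B.ih B.mem₁ B.ord₁ hz' hz'2 hne.symm hc B.mem₂ B.ord₂ hy' hy'2 hne'.symm
  rw [hW z (subset_closure (Or.inl rfl)) (involution_ne_one B.ord₁) b (subset_closure (Or.inl rfl))
    (involution_ne_one B.ord₂)]
  exact hodd

theorem wn_mem {x y : G} (hx : x ∈ involClass D) (hy : y ∈ involClass W) (hxy : Commute x y)
    (hxM : x ∈ bigN z b) (hyM : y ∈ bigN z b) : Wn x y = Wn z b := by
  obtain ⟨g, hg, hgS⟩ := exists_conj_into S B.sylow_le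
    ((closure_le _).2 (by rintro v (rfl | rfl) <;> assumption) : closure ({x, y} : Set G) ≤ bigN z b)
    (isPGroup_pair (involution_sq hx.1) (involution_sq hy.1) hxy)
  refine Subgroup.map_injective (f := (MulAut.conj g).toMonoidHom) (MulAut.conj g).injective ?_
  rw [map_Wn, B.wn_base (B.fib.conj_left hx (hgS x (subset_closure (Or.inl rfl))))
    ((orderOf_conj g x).trans hx.1) (B.fib.conj_right hy (hgS y (subset_closure (Or.inr rfl))))
    ((orderOf_conj g y).trans hy.1), map_eq_iff.2 hg]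

/-- An element taking a pair in `M` to a pair in `M` is in `M`. -/
theorem move {x y g : G} (hx : x ∈ involClass D) (hy : y ∈ involClass W) (hxy : Commute x y)
    (hxM : x ∈ bigN z b) (hyM : y ∈ bigN z b) (hgx : g * x * g⁻¹ ∈ bigN z b)
    (hgy : g * y * g⁻¹ ∈ bigN z b) : g ∈ bigN z b := by
  refine map_eq_iff.1 ?_
  conv_lhs => rw [← B.wn_mem hx hy hxy hxM hyM]
  rw [map_Wn]
  exact B.wn_mem (involClass_conj hx g) (involClass_conj hy g) (hxy.map (MulAut.conj g).toMonoidHom) hgx hgy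

theorem pair_cen_le {x y g : G} (hx : x ∈ involClass D) (hy : y ∈ involClass W) (hxy : Commute x y)
    (hxM : x ∈ bigN z b) (hyM : y ∈ bigN z b) (hgx : Commute g x) (hgy : Commute g y) : g ∈ bigN z b :=
  B.move hx hy hxy hxM hyM (by rw [hgx.eq, mul_inv_cancel_right]; exact hxM)
    (by rw [hgy.eq, mul_inv_cancel_right]; exact hyM)

/-- `O(C(y)) ≤ M` for a pair in `M`. -/
theorem core_le₂ {x y : G} (hx : x ∈ involClass D) (hy : y ∈ involClass W) (hxy : Commute x y)
    (hxM : x ∈ bigN z b) (hyM : y ∈ bigN z b) : coreCent ({y} : Set G) ≤ bigN z b := by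
  intro u hu
  have hn : zpowers x ≤ normalizer (coreCent ({y} : Set G) : Set G) := norm_coreCent fun a ha => by
    obtain ⟨k, rfl⟩ := mem_zpowers_iff.1 ha
    exact hxy.zpow_left k
  have h2 : IsPGroup 2 (zpowers x) :=
    IsPGroup.of_card (n := 1) (by rw [Nat.card_zpowers, hx.1, pow_one])
  obtain ⟨v, hv, w, hw, rfl⟩ := CfsgLib.Core.exists_mul_centralizing hn
    (coprime_two_group h2 (coreCent_odd _)) (Or.inl inferInstance) hu
  refine mul_mem (le_normalizer (B.wn_mem hx hy hxy hxM hyM ▸ ?_)) ?_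
  · exact mem_sup_left (mem_sup_left (mem_sup_left hv))
  · exact B.pair_cen_le hx hy hxy hxM hyM (mem_centralizer_iff.1 hw.2 x (mem_zpowers x)).symm
      (mem_centralizer_singleton_iff.1 (coreCent_le _ hw.1))

/-- `O(C(x)) ≤ M` for a pair in `M`. -/
theorem core_le₁ {x y : G} (hx : x ∈ involClass D) (hy : y ∈ involClass W) (hxy : Commute x y)
    (hxM : x ∈ bigN z b) (hyM : y ∈ bigN z b) : coreCent ({x} : Set G) ≤ bigN z b := by
  intro u hu
  have hn : zpowers y ≤ normalizer (coreCent ({x} : Set G) : Set G) := norm_coreCent fun a ha => by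
    obtain ⟨k, rfl⟩ := mem_zpowers_iff.1 ha
    exact hxy.symm.zpow_left k
  have h2 : IsPGroup 2 (zpowers y) :=
    IsPGroup.of_card (n := 1) (by rw [Nat.card_zpowers, hy.1, pow_one])
  obtain ⟨v, hv, w, hw, rfl⟩ := CfsgLib.Core.exists_mul_centralizing hn
    (coprime_two_group h2 (coreCent_odd _)) (Or.inl inferInstance) hu
  refine mul_mem (le_normalizer (B.wn_mem hx hy hxy hxM hyM ▸ ?_)) ?_
  · exact mem_sup_left (mem_sup_right hv)
  · exact B.pair_cen_le hx hy hxy hxM hyM (mem_centralizer_singleton_iff.1 (coreCent_le _ hw.1))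
      (mem_centralizer_iff.1 hw.2 y (mem_zpowers y)).symm

/-- `C(xy) ≤ M` for a pair in `M`. -/
theorem mixed_le {x y : G} (hx : x ∈ involClass D) (hy : y ∈ involClass W) (hxy : Commute x y)
    (hxM : x ∈ bigN z b) (hyM : y ∈ bigN z b) {g : G} (hg : Commute g (x * y)) : g ∈ bigN z b := by
  obtain ⟨u, hu, h1, h2⟩ := B.fib.cen_mixed hx hy hxy hg
  have hug := B.pair_cen_le hx hy hxy hxM hyM h1 h2
  refine (mul_mem_cancel_left ?_).1 hug
  have hn : zpowers y ≤ normalizer (coreCent ({x * y} : Set G) : Set G) := norm_coreCent fun a ha => by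
    obtain ⟨k, rfl⟩ := mem_zpowers_iff.1 ha
    exact (hxy.symm.mul_right (Commute.refl y)).zpow_left k
  have h2' : IsPGroup 2 (zpowers y) :=
    IsPGroup.of_card (n := 1) (by rw [Nat.card_zpowers, hy.1, pow_one])
  obtain ⟨v, hv, w, hw, rfl⟩ := CfsgLib.Core.exists_mul_centralizing hn
    (coprime_two_group h2' (coreCent_odd _)) (Or.inl inferInstance) hu
  refine mul_mem (le_normalizer (B.wn_mem hx hy hxy hxM hyM ▸ ?_)) ?_
  · exact mem_sup_right hv
  · have hwy : Commute w y := (mem_centralizer_iff.1 hw.2 y (mem_zpowers y)).symm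
    have hwa : Commute w (x * y) := mem_centralizer_singleton_iff.1 (coreCent_le _ hw.1)
    refine B.pair_cen_le hx hy hxy hxM hyM ?_ hwy
    have := hwa.mul_right hwy.inv_right
    rwa [mul_inv_cancel_right] at this

end Base

end CfsgLib.TwoFusion.AbelianFactor
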