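import Cfsg.Agent.Lib.TwoFusion.DihedralProduct.Setup
import Mathlib.Algebra.Group.TypeTags.Finite

/-!
Owner: helper2.  A Sylow 2-subgroup `S = D × W` with both factors strongly closed, `W` abelian and `D`
dihedral of order at least eight or homocyclic of rank two (for S4594).
-/

set_option autoImplicit false
set_option linter.style.haveILetI false
set_option linter.unusedSectionVars false

namespace CfsgLib.TwoFusion.AbelianFactor

open Subgroup Cfsg
open CfsgLib.Signalizer (involution_sq involution_inv involution_ne_one orderOf_eq_two_of orderOf_conj)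
open CfsgLib.TwoFusion.DihedralProduct (involClass mem_involClass_iff involClass_conj Dih dih_of_equiv
  isPGroup_pair)

universe u

variable {G : Type u} [Group G]

/-- Homocyclic of rank two. -/
def Homo (D : Subgroup G) (m : ℕ) : Prop :=
  Nonempty (D ≃* Multiplicative (ZMod (2 ^ m) × ZMod (2 ^ m)))

/-- Dihedral of order at least eight or homocyclic of rank two. -/
def Good (D : Subgroup G) : Prop :=
  (∃ m, 1 ≤ m ∧ Homo D m) ∨ ∃ n, 2 ≤ n ∧ Nonempty (D ≃* DihedralGroup (2 ^ n))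

theorem Good.of_equiv {H : Type u} [Group H] {D : Subgroup G} {D' : Subgroup H} (e : D ≃* D')
    (h : Good D) : Good D' := by
  rcases h with ⟨m, hm, ⟨f⟩⟩ | ⟨n, hn, ⟨f⟩⟩
  · exact Or.inl ⟨m, hm, ⟨e.symm.trans f⟩⟩
  · exact Or.inr ⟨n, hn, ⟨e.symm.trans f⟩⟩

theorem zmod_two_torsion {m : ℕ} (hm : 1 ≤ m) {a : ZMod (2 ^ m)} (h : a + a = 0) :
    a = 0 ∨ a = ((2 ^ (m - 1) : ℕ) : ZMod (2 ^ m)) := by
  have e : 2 ^ m = 2 * 2 ^ (m - 1) := by rw [← pow_succ', Nat.sub_add_cancel hm]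
  rw [← ZMod.natCast_zmod_val a, ← Nat.cast_add, ZMod.natCast_eq_zero_iff] at h
  have hlt := ZMod.val_lt a
  obtain ⟨c, hc⟩ := h
  have hc2 : c < 2 := by
    by_contra hcon
    have : 2 ^ m * 2 ≤ 2 ^ m * c := Nat.mul_le_mul_left _ (by omega)
    omega
  interval_cases c
  · left
    have hv : a.val = 0 := by omega
    rw [← ZMod.natCast_zmod_val a, hv, Nat.cast_zero]
  · right
    have hv : a.val = 2 ^ (m - 1) := by omega
    rw [← ZMod.natCast_zmod_val a, hv]

theorem zmod_half_ne {m : ℕ} (hm : 1 ≤ m) :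
    ((2 ^ (m - 1) : ℕ) : ZMod (2 ^ m)) ≠ 0 ∧
      ((2 ^ (m - 1) : ℕ) : ZMod (2 ^ m)) + ((2 ^ (m - 1) : ℕ) : ZMod (2 ^ m)) = 0 := by
  have e : 2 ^ m = 2 * 2 ^ (m - 1) := by rw [← pow_succ', Nat.sub_add_cancel hm]
  have hpos : 0 < 2 ^ (m - 1) := by positivity
  constructor
  · rw [Ne, ZMod.natCast_eq_zero_iff]
    intro h
    have := Nat.le_of_dvd hpos h
    omega
  · rw [← Nat.cast_add, ZMod.natCast_eq_zero_iff, e, two_mul]

theorem Homo.comm {D : Subgroup G} {m : ℕ} (h : Homo D m) {a b : G} (ha : a ∈ D) (hb : b ∈ D) :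
    Commute a b := by
  obtain ⟨e⟩ := h
  exact congrArg Subtype.val (e.injective (by rw [map_mul, map_mul, mul_comm]) :
    (⟨a, ha⟩ : D) * ⟨b, hb⟩ = ⟨b, hb⟩ * ⟨a, ha⟩)

theorem Homo.involutions {D : Subgroup G} {m : ℕ} (hm : 1 ≤ m) (h : Homo D m) :
    ∃ s ∈ D, ∃ t ∈ D, orderOf s = 2 ∧ orderOf t = 2 ∧ s ≠ t ∧
      ∀ x ∈ D, x * x = 1 → x = 1 ∨ x = s ∨ x = t ∨ x = s * t := by
  obtain ⟨e⟩ := h
  obtain ⟨hc0, hcc⟩ := zmod_half_ne hm
  set c : ZMod (2 ^ m) := ((2 ^ (m - 1) : ℕ) : ZMod (2 ^ m)) with hc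
  set s : D := e.symm (Multiplicative.ofAdd (c, 0)) with hs
  set t : D := e.symm (Multiplicative.ofAdd (0, c)) with ht
  have hord : ∀ p : ZMod (2 ^ m) × ZMod (2 ^ m), p ≠ 0 → p + p = 0 →
      orderOf ((e.symm (Multiplicative.ofAdd p) : D) : G) = 2 := by
    intro p hp hpp
    rw [Subgroup.orderOf_coe, e.symm.orderOf_eq]
    exact orderOf_eq_two_of (fun h => hp (Multiplicative.ofAdd.injective (h.trans ofAdd_zero.symm)))
      (by rw [← ofAdd_add, hpp, ofAdd_zero])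
  refine ⟨s, s.2, t, t.2, hord _ (fun h => hc0 (Prod.ext_iff.1 h).1) (Prod.ext hcc (add_zero 0)),
    hord _ (fun h => hc0 (Prod.ext_iff.1 h).2) (Prod.ext (add_zero 0) hcc), fun h => ?_,
    fun x hx hxx => ?_⟩
  · have h' := Multiplicative.ofAdd.injective (e.symm.injective (Subtype.ext h :))
    rw [Prod.ext_iff] at h'
    exact hc0 h'.1
  · obtain ⟨p, hp⟩ : ∃ p, e ⟨x, hx⟩ = Multiplicative.ofAdd p := ⟨_, (ofAdd_toAdd _).symm⟩
    have hpp : p + p = 0 := by
      have h1 : e (⟨x, hx⟩ * ⟨x, hx⟩) = 1 := by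
        rw [show (⟨x, hx⟩ : D) * ⟨x, hx⟩ = 1 from Subtype.ext hxx, map_one]
      rw [map_mul, hp, ← ofAdd_add] at h1
      exact Multiplicative.ofAdd.injective (h1.trans ofAdd_zero.symm)
    have hx' : x = ((e.symm (Multiplicative.ofAdd p) : D) : G) := by rw [← hp, e.symm_apply_apply]
    obtain ⟨h1, h2⟩ := Prod.ext_iff.1 hpp
    rcases zmod_two_torsion hm h1 with ha | ha <;> rcases zmod_two_torsion hm h2 with hb | hb
    · left
      rw [hx', show p = 0 from Prod.ext ha hb, ofAdd_zero, map_one, coe_one]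
    · right; right; left
      rw [hx', show p = (0, c) from Prod.ext ha hb]
    · right; left
      rw [hx', show p = (c, 0) from Prod.ext ha hb]
    · right; right; right
      rw [hx', show p = (c, 0) + (0, c) from Prod.ext (ha.trans (add_zero c).symm) (hb.trans (zero_add c).symm),
        ofAdd_add, map_mul, coe_mul]

theorem Good.exists_partner [Finite G] {D : Subgroup G} (hD : IsPGroup 2 D) (h : Good D) {x : G}
    (hx : x ∈ D) (hx2 : orderOf x = 2) : ∃ x' ∈ D, orderOf x' = 2 ∧ x' ≠ x ∧ Commute x x' := by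
  rcases h with ⟨m, hm, hh⟩ | ⟨n, hn, ⟨e⟩⟩
  · obtain ⟨s, hs, t, ht, hs2, ht2, hne, -⟩ := hh.involutions hm
    by_cases hxs : x = s
    · exact ⟨t, ht, ht2, fun h => hne (hxs ▸ h.symm), hh.comm hx ht⟩
    · exact ⟨s, hs, hs2, fun h => hxs h.symm, hh.comm hx hs⟩
  · exact (dih_of_equiv hD (Nat.le_self_pow (by omega) 2) e).exists_partner hx hx2

theorem Good.exists_central [Finite G] {D : Subgroup G} (hD : IsPGroup 2 D) (h : Good D) :
    ∃ z ∈ D, orderOf z = 2 ∧ ∀ d ∈ D, Commute d z := by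
  rcases h with ⟨m, hm, hh⟩ | ⟨n, hn, ⟨e⟩⟩
  · obtain ⟨s, hs, -, -, hs2, -⟩ := hh.involutions hm
    exact ⟨s, hs, hs2, fun d hd => hh.comm hd hs⟩
  · exact (dih_of_equiv hD (Nat.le_self_pow (by omega) 2) e).exists_center

/-- The standing data. -/
structure Fib (S : Sylow 2 G) (D W : Subgroup G) : Prop where
  prod : IsInternalDirectProduct D W (S : Subgroup G)
  closed₁ : IsStronglyClosed D (S : Subgroup G)
  closed₂ : IsStronglyClosed W (S : Subgroup G)
  comm₂ : ∀ a ∈ W, ∀ b ∈ W, Commute a b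
  good : Good D

namespace Fib

variable {S : Sylow 2 G} {D W : Subgroup G} (F : Fib S D W)

include F

theorem le₁ : D ≤ (S : Subgroup G) := F.prod.1

theorem le₂ : W ≤ (S : Subgroup G) := F.prod.2.1

theorem pgroup₁ : IsPGroup 2 D := S.2.to_le F.le₁

theorem pgroup₂ : IsPGroup 2 W := S.2.to_le F.le₂

theorem commute {a b : G} (ha : a ∈ D) (hb : b ∈ W) : Commute a b := F.prod.2.2.1 a ha b hb

theorem eq_one {a : G} (h1 : a ∈ D) (h2 : a ∈ W) : a = 1 := by
  have : a ∈ D ⊓ W := ⟨h1, h2⟩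
  rwa [F.prod.2.2.2.1, mem_bot] at this

theorem exists_mul {a : G} (ha : a ∈ (S : Subgroup G)) : ∃ u ∈ D, ∃ v ∈ W, a = u * v := by
  have hn : D ≤ normalizer (W : Set G) := fun u hu => centralizer_le_normalizer _
    (mem_centralizer_iff.2 fun v hv => (F.commute hu hv).eq.symm)
  exact (CfsgLib.Core.mem_sup_iff_mul hn).1 (F.prod.2.2.2.2.ge ha)

theorem mul_unique {u u' v v' : G} (hu : u ∈ D) (hu' : u' ∈ D) (hv : v ∈ W) (hv' : v' ∈ W)
    (h : u * v = u' * v') : u = u' ∧ v = v' := by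
  have e : u'⁻¹ * u = v' * v⁻¹ := by
    rw [eq_mul_inv_iff_mul_eq, mul_assoc, h, inv_mul_cancel_left]
  have h1 := F.eq_one (mul_mem (inv_mem hu') hu) (e ▸ mul_mem hv' (inv_mem hv))
  have hu' : u = u' := (inv_mul_eq_one.1 h1).symm
  exact ⟨hu', mul_left_cancel (hu' ▸ h)⟩

theorem central₂ {w s : G} (hw : w ∈ W) (hs : s ∈ (S : Subgroup G)) : Commute s w := by
  obtain ⟨u, hu, v, hv, rfl⟩ := F.exists_mul hs
  exact (F.commute hu hw).mul_left (F.comm₂ v hv w hw)

/-- The first class meets `S` in `D`. -/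
theorem mem_left {x : G} (hx : x ∈ involClass D) (hxS : x ∈ (S : Subgroup G)) : x ∈ D :=
  ((mem_involClass_iff F.closed₁ hxS).1 hx).2

theorem mem_right {x : G} (hx : x ∈ involClass W) (hxS : x ∈ (S : Subgroup G)) : x ∈ W :=
  ((mem_involClass_iff F.closed₂ hxS).1 hx).2

theorem mem_class₁ {x : G} (hx : x ∈ D) (h2 : orderOf x = 2) : x ∈ involClass D :=
  (mem_involClass_iff F.closed₁ (F.le₁ hx)).2 ⟨h2, hx⟩

theorem mem_class₂ {x : G} (hx : x ∈ W) (h2 : orderOf x = 2) : x ∈ involClass W :=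
  (mem_involClass_iff F.closed₂ (F.le₂ hx)).2 ⟨h2, hx⟩

omit F in
theorem class_conj {E : Subgroup G} {x : G} (hx : x ∈ involClass E) (g : G) :
    g * x * g⁻¹ ∈ involClass E :=
  involClass_conj hx g

theorem conj_left {x g : G} (hx : x ∈ involClass D) (h : g * x * g⁻¹ ∈ (S : Subgroup G)) :
    g * x * g⁻¹ ∈ D :=
  F.mem_left (involClass_conj hx g) h

theorem conj_right {x g : G} (hx : x ∈ involClass W) (h : g * x * g⁻¹ ∈ (S : Subgroup G)) :
    g * x * g⁻¹ ∈ W :=
  F.mem_right (involClass_conj hx g) h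

variable [Finite G]

include F

omit F in
theorem exists_conj (_ : Fib S D W) {Q : Subgroup G} (hQ : IsPGroup 2 Q) :
    ∃ g : G, ∀ q ∈ Q, g * q * g⁻¹ ∈ (S : Subgroup G) := by
  haveI : Fact (Nat.Prime 2) := ⟨Nat.prime_two⟩
  exact CfsgLib.Techniques.exists_conj_mem_sylow S hQ

/-- Commuting representatives of the two classes go simultaneously into the factors. -/
theorem conj_pair {x y : G} (hx : x ∈ involClass D) (hy : y ∈ involClass W) (hxy : Commute x y) :
    ∃ g : G, g * x * g⁻¹ ∈ D ∧ g * y * g⁻¹ ∈ W := by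
  obtain ⟨g, hg⟩ := F.exists_conj (isPGroup_pair (involution_sq hx.1) (involution_sq hy.1) hxy)
  exact ⟨g, F.conj_left hx (hg x (subset_closure (Or.inl rfl))),
    F.conj_right hy (hg y (subset_closure (Or.inr rfl)))⟩

theorem not_mem {x : G} (hx : x ∈ involClass D) : x ∉ involClass W := fun hx' => by
  obtain ⟨g, h1, h2⟩ := F.conj_pair hx hx' (Commute.refl x)
  exact involution_ne_one ((orderOf_conj g x).trans hx.1) (F.eq_one h1 h2)

theorem commute_of_pGroup {Q : Subgroup G} (hQ : IsPGroup 2 Q) {x y : G} (hx : x ∈ involClass D)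
    (hy : y ∈ involClass W) (hxQ : x ∈ Q) (hyQ : y ∈ Q) : Commute x y := by
  obtain ⟨g, hg⟩ := F.exists_conj hQ
  exact (MulAut.conj g).injective (by
    rw [map_mul, map_mul]
    exact (F.commute (F.conj_left hx (hg x hxQ)) (F.conj_right hy (hg y hyQ))).eq)

theorem mul_ne_one {x y : G} (hx : x ∈ involClass D) (hy : y ∈ involClass W) : x * y ≠ 1 := fun e =>
  F.not_mem hx (by rwa [mul_eq_one_iff_eq_inv.1 e, involution_inv hy.1])

end Fib

end CfsgLib.TwoFusion.AbelianFactor
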