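import Cfsg.Agent.Lib.TwoFusion.AbelianFactor.Base

/-!
Owner: helper2.  The trace of a subgroup on `C(K) / O(C(K)) K` for a central factor `K` of `S`:
everything or strongly embedded.
-/

set_option autoImplicit false
set_option linter.style.haveILetI false
set_option linter.unusedSectionVars false

namespace CfsgLib.TwoFusion.AbelianFactor

open Subgroup Cfsg
open CfsgLib.Signalizer (involution_sq involution_inv involution_ne_one orderOf_eq_two_of orderOf_conj)
open CfsgLib.TwoFusion.DihedralProduct (exists_conj_of_mul_mem exists_sylow_preimage oddCore_quotient_central)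

universe u

variable {G : Type u} [Group G]

/-- The image of `K` in `C(K)` modulo the core. -/
def zBar (K : Subgroup G) :
    Subgroup ((centralizer (K : Set G)) ⧸ oddCore (centralizer (K : Set G))) :=
  (K.subgroupOf (centralizer (K : Set G))).map (QuotientGroup.mk' _)

theorem zBar_le_center (K : Subgroup G) :
    zBar K ≤ center ((centralizer (K : Set G)) ⧸ oddCore (centralizer (K : Set G))) := by
  rintro _ ⟨a, ha, rfl⟩
  refine mem_center_iff.2 fun q => ?_
  obtain ⟨v, rfl⟩ := QuotientGroup.mk'_surjective _ q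
  rw [← map_mul, ← map_mul]
  exact congrArg _ (Subtype.ext (mem_centralizer_iff.1 v.2 a (mem_subgroupOf.1 ha)).symm)

instance zBar_normal (K : Subgroup G) : (zBar K).Normal :=
  ⟨fun v hv q => by rwa [mem_center_iff.1 (zBar_le_center K hv) q, mul_inv_cancel_right]⟩

/-- `C(K) / O(C(K)) K`. -/
abbrev Ybar (K : Subgroup G) :=
  ((centralizer (K : Set G)) ⧸ oddCore (centralizer (K : Set G))) ⧸ zBar K

/-- The projection. -/
def piX (K : Subgroup G) : centralizer (K : Set G) →* Ybar K :=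
  (QuotientGroup.mk' (zBar K)).comp (QuotientGroup.mk' _)

theorem piX_surjective (K : Subgroup G) : Function.Surjective (piX K) :=
  (QuotientGroup.mk'_surjective _).comp (QuotientGroup.mk'_surjective _)

theorem piX_of_mem {K : Subgroup G} {a : centralizer (K : Set G)} (ha : (a : G) ∈ K) : piX K a = 1 :=
  (QuotientGroup.eq_one_iff _).2 (mem_map_of_mem _ (mem_subgroupOf.2 ha))

theorem piX_of_core {K : Subgroup G} {a : centralizer (K : Set G)}
    (ha : a ∈ oddCore (centralizer (K : Set G))) : piX K a = 1 := by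
  show QuotientGroup.mk' (zBar K) (QuotientGroup.mk' _ a) = 1
  rw [show QuotientGroup.mk' (oddCore (centralizer (K : Set G))) a = 1 from
    (QuotientGroup.eq_one_iff a).2 ha, map_one]

theorem piX_ker {K : Subgroup G} {v : centralizer (K : Set G)} (hv : piX K v = 1) :
    ∃ o ∈ oddCore (centralizer (K : Set G)), ∃ a : centralizer (K : Set G), (a : G) ∈ K ∧ v = o * a := by
  obtain ⟨a, ha, e⟩ := (QuotientGroup.eq_one_iff (QuotientGroup.mk' (oddCore _) v)).1 hv
  refine ⟨v * a⁻¹, (QuotientGroup.eq_one_iff _).1 (show QuotientGroup.mk' (oddCore _) (v * a⁻¹) = 1 by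
    rw [map_mul, map_inv, ← e, mul_inv_cancel]), a, mem_subgroupOf.1 ha, by group⟩

/-- `S = U × K` with `K` central in `S` and `U` closed on involutions. -/
structure Pos (S : Sylow 2 G) (U K : Subgroup G) : Prop where
  le₁ : U ≤ (S : Subgroup G)
  le₂ : K ≤ (S : Subgroup G)
  cen : ∀ s ∈ (S : Subgroup G), ∀ a ∈ K, Commute s a
  disjoint : ∀ a, a ∈ U → a ∈ K → a = 1
  cover : ∀ s ∈ (S : Subgroup G), ∃ u ∈ U, ∃ a ∈ K, s = u * a
  closed : ∀ u ∈ U, orderOf u = 2 → ∀ g : G, g * u * g⁻¹ ∈ (S : Subgroup G) → g * u * g⁻¹ ∈ U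

variable [Finite G]

namespace Pos

variable {S : Sylow 2 G} {U K : Subgroup G} (P : Pos S U K)

include P

theorem sylow_le_cen : (S : Subgroup G) ≤ centralizer (K : Set G) := fun s hs =>
  mem_centralizer_iff.2 fun a ha => (P.cen s hs a ha).eq.symm

theorem eq_one_of_core {v : centralizer (K : Set G)} (hv : (v : G) ∈ (S : Subgroup G))
    (ho : v ∈ oddCore (centralizer (K : Set G))) : v = 1 := by
  haveI : Fact (Nat.Prime 2) := ⟨Nat.prime_two⟩
  have h1 : Odd (orderOf v) :=
    (CfsgLib.ZStar.odd_card_oddCore _).of_dvd_nat (Subgroup.orderOf_dvd_natCard _ ho)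
  obtain ⟨j, hj⟩ := IsPGroup.iff_orderOf.1 S.2 ⟨(v : G), hv⟩
  rw [Subgroup.orderOf_mk, Subgroup.orderOf_coe] at hj
  rw [hj] at h1
  rcases Nat.eq_zero_or_pos j with rfl | hj0
  · exact orderOf_eq_one_iff.1 (hj.trans (pow_zero 2))
  · exact absurd h1 (Nat.not_odd_iff_even.2 ((Nat.even_pow).2 ⟨even_two, by omega⟩))

theorem injective {u : centralizer (K : Set G)} (hu : (u : G) ∈ U) (h : piX K u = 1) : u = 1 := by
  obtain ⟨o, ho, a, ha, e⟩ := piX_ker h
  have hoS : (o : G) ∈ (S : Subgroup G) := by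
    rw [show o = u * a⁻¹ by rw [e]; group]
    exact mul_mem (P.le₁ hu) (inv_mem (P.le₂ ha))
  rw [P.eq_one_of_core hoS ho, one_mul] at e
  exact Subtype.ext (P.disjoint _ hu (e ▸ ha))

theorem pi_of_cover {t : centralizer (K : Set G)} (ht : (t : G) ∈ (S : Subgroup G)) :
    ∃ u : centralizer (K : Set G), (u : G) ∈ U ∧ piX K t = piX K u := by
  obtain ⟨u, hu, a, ha, e⟩ := P.cover _ ht
  refine ⟨⟨u, P.sylow_le_cen (P.le₁ hu)⟩, hu, ?_⟩
  rw [show t = ⟨u, P.sylow_le_cen (P.le₁ hu)⟩ * ⟨a, P.sylow_le_cen (P.le₂ ha)⟩ from Subtype.ext e,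
    map_mul, piX_of_mem (a := ⟨a, P.sylow_le_cen (P.le₂ ha)⟩) ha, mul_one]

/-- The Sylow subgroup of `C(K) / O K` is `U`. -/
theorem exists_sylow_equiv : ∃ T : Sylow 2 (Ybar K), Nonempty (U ≃* (T : Subgroup (Ybar K))) ∧
    (∀ q ∈ (T : Subgroup (Ybar K)), ∃ u : centralizer (K : Set G), (u : G) ∈ U ∧ q = piX K u) ∧
    ∀ u : centralizer (K : Set G), (u : G) ∈ (S : Subgroup G) → piX K u ∈ (T : Subgroup (Ybar K)) := by
  haveI : Fact (Nat.Prime 2) := ⟨Nat.prime_two⟩
  set T := S.subtype P.sylow_le_cen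
  refine ⟨T.mapSurjective (piX_surjective K), ?_, ?_, fun u hu =>
    mem_map_of_mem (piX K) (show u ∈ (T : Subgroup (centralizer (K : Set G))) from
      (mem_subgroupOf.2 hu : u ∈ (S : Subgroup G).subgroupOf (centralizer (K : Set G))))⟩
  · let ψ : U →* (T.mapSurjective (piX_surjective K) : Subgroup (Ybar K)) :=
      ((piX K).comp (inclusion (P.le₁.trans P.sylow_le_cen))).codRestrict _ fun u =>
        mem_map_of_mem (piX K) (show (inclusion (P.le₁.trans P.sylow_le_cen) u) ∈ (T : Subgroup (centralizer (K : Set G))) from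
            (mem_subgroupOf.2 (P.le₁ u.2) : _ ∈ (S : Subgroup G).subgroupOf (centralizer (K : Set G))))
    refine ⟨MulEquiv.ofBijective ψ ⟨(injective_iff_map_eq_one ψ).2 fun u hu => ?_, ?_⟩⟩
    · have := P.injective (u := inclusion (P.le₁.trans P.sylow_le_cen) u) u.2 (congrArg Subtype.val hu)
      exact Subtype.ext (congrArg Subtype.val this :)
    · rintro ⟨_, t, ht, rfl⟩
      obtain ⟨u, hu, e⟩ := P.pi_of_cover (t := t) (mem_subgroupOf.1 ht)
      exact ⟨⟨u, hu⟩, Subtype.ext e.symm⟩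
  · rintro _ ⟨t, ht, rfl⟩
    exact P.pi_of_cover (t := t) (mem_subgroupOf.1 ht)

theorem mem_core_of_odd {v : centralizer (K : Set G)} (hv : piX K v = 1) (ho : Odd (orderOf v)) :
    v ∈ oddCore (centralizer (K : Set G)) := by
  have h1 : QuotientGroup.mk' (oddCore (centralizer (K : Set G))) v ∈ zBar K :=
    (QuotientGroup.eq_one_iff _).1 hv
  obtain ⟨j, hj⟩ := IsPGroup.iff_orderOf.1
    (((S.2.to_le P.le₂).comap_of_injective _ (centralizer (K : Set G)).subtype_injective).map
      (QuotientGroup.mk' (oddCore (centralizer (K : Set G))))) ⟨_, h1⟩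
  rw [← Subgroup.orderOf_coe] at hj; change orderOf (QuotientGroup.mk' (oddCore (centralizer (K : Set G))) v) = 2 ^ j at hj
  have h2 := ho.of_dvd_nat (orderOf_map_dvd (QuotientGroup.mk' (oddCore (centralizer (K : Set G)))) v)
  rw [hj] at h2
  rcases Nat.eq_zero_or_pos j with rfl | hj0
  · exact (QuotientGroup.eq_one_iff v).1 (orderOf_eq_one_iff.1 (hj.trans (pow_zero 2)))
  · exact absurd h2 (Nat.not_odd_iff_even.2 ((Nat.even_pow).2 ⟨even_two, by omega⟩))

theorem oddCore_eq_bot : oddCore (Ybar K) = ⊥ :=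
  oddCore_quotient_central (zBar K) (zBar_le_center K)
    (((S.2.to_le P.le₂).comap_of_injective _ (centralizer (K : Set G)).subtype_injective).map _)
    (CfsgLib.Core.pPrimeCore_quotient_pPrimeCore 2 _)

/-- Conjugacy of involutions of `U` modulo `O K` is realised in `C(K)`, up to the core. -/
theorem lift_conj {u u' k : centralizer (K : Set G)} (hu : (u : G) ∈ U) (hu' : (u' : G) ∈ U)
    (hu2 : orderOf u = 2) (h : piX K k * piX K u * (piX K k)⁻¹ = piX K u') :
    ∃ w ∈ oddCore (centralizer (K : Set G)), w * k * u * (w * k)⁻¹ = u' := by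
  haveI : Fact (Nat.Prime 2) := ⟨Nat.prime_two⟩
  obtain ⟨o, ho, a, ha, e⟩ := piX_ker (v := k * u * k⁻¹ * u'⁻¹) (by
    rw [map_mul, map_mul, map_mul, map_inv, map_inv, h, mul_inv_cancel])
  have e1 : k * u * k⁻¹ = o * (a * u') := by
    rw [← mul_assoc, ← e, inv_mul_cancel_right]
  have hk2 : orderOf (k * u * k⁻¹) = 2 := by rw [orderOf_conj, hu2]
  have hau : Commute a u' := Subtype.ext (P.cen u' (P.le₁ hu') a ha).eq.symm
  -- the 2-element is an involution
  have hsq : a * u' * (a * u') = 1 := by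
    refine P.eq_one_of_core ?_ ?_
    · exact mul_mem (mul_mem (P.le₂ ha) (P.le₁ hu')) (mul_mem (P.le₂ ha) (P.le₁ hu'))
    · have hp : QuotientGroup.mk' (oddCore (centralizer (K : Set G))) (a * u' * (a * u')) = 1 := by
        have h1 : QuotientGroup.mk' (oddCore (centralizer (K : Set G))) (a * u') =
            QuotientGroup.mk' _ (k * u * k⁻¹) := by
          rw [e1, map_mul _ o, show QuotientGroup.mk' (oddCore (centralizer (K : Set G))) o = 1 from
            (QuotientGroup.eq_one_iff o).2 ho, one_mul]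
        rw [map_mul, h1, ← map_mul, involution_sq hk2, map_one]
      exact (QuotientGroup.eq_one_iff _).1 hp
  have hau1 : a * u' ≠ 1 := by
    intro h1
    rw [h1, mul_one] at e1
    have h2 : Odd (orderOf (k * u * k⁻¹)) := e1 ▸
      (CfsgLib.ZStar.odd_card_oddCore _).of_dvd_nat (Subgroup.orderOf_dvd_natCard _ ho)
    rw [hk2] at h2
    exact absurd h2 (by decide)
  obtain ⟨w, hw, hwe⟩ := exists_conj_of_mul_mem (CfsgLib.ZStar.odd_card_oddCore _) hk2
    (orderOf_eq_two_of hau1 hsq) (show k * u * k⁻¹ * (a * u') ∈ oddCore _ by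
      rw [e1, mul_assoc, hsq, mul_one]; exact ho)
  refine ⟨w, hw, ?_⟩
  have hgu : ((w * k : centralizer (K : Set G)) : G) * u * ((w * k : centralizer (K : Set G)) : G)⁻¹ =
      (a : G) * u' := by
    have := congrArg Subtype.val hwe
    simp only [coe_mul, coe_inv] at this ⊢
    rw [← this]; group
  have hU := P.closed u hu (by rw [Subgroup.orderOf_coe]; exact hu2)
    ((w * k : centralizer (K : Set G)) : G) (by rw [hgu]; exact mul_mem (P.le₂ ha) (P.le₁ hu'))
  rw [hgu] at hU
  have ha1 : a = 1 := Subtype.ext (P.disjoint _ ((mul_mem_cancel_right hu').1 hU) ha)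
  rw [show w * k * u * (w * k)⁻¹ = w * (k * u * k⁻¹) * w⁻¹ by group, hwe, ha1, one_mul]

/-- The dichotomy. -/
theorem dichotomy {M : Subgroup G} (hSM : (S : Subgroup G) ≤ M) (hU : ∃ u ∈ U, orderOf u = 2)
    (hOM : ∀ o ∈ oddCore (centralizer (K : Set G)), (o : G) ∈ M)
    (hmove : ∀ u ∈ U, orderOf u = 2 → ∀ g ∈ centralizer (K : Set G), g * u * g⁻¹ ∈ M → g ∈ M) :
    centralizer (K : Set G) ≤ M ∨
      ((M.subgroupOf (centralizer (K : Set G))).map (piX K) ≠ ⊤ ∧
        IsStronglyEmbedded ((M.subgroupOf (centralizer (K : Set G))).map (piX K))) := by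
  haveI : Fact (Nat.Prime 2) := ⟨Nat.prime_two⟩
  set X := centralizer (K : Set G) with hX
  set L := M.subgroupOf X with hL
  have hker : ∀ v, piX K v = 1 → v ∈ L := fun v hv => by
    obtain ⟨o, ho, a, ha, rfl⟩ := piX_ker hv
    exact mul_mem (mem_subgroupOf.2 (hOM o ho)) (mem_subgroupOf.2 (hSM (P.le₂ ha)))
  have hmapL : ∀ v, piX K v ∈ L.map (piX K) → v ∈ L := fun v hv => by
    obtain ⟨w, hw, e⟩ := hv
    have := mul_mem hw (hker (w⁻¹ * v) (by rw [map_mul, map_inv, e, inv_mul_cancel]))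
    rwa [mul_inv_cancel_left] at this
  by_cases htop : L.map (piX K) = ⊤
  · exact Or.inl fun v hv => mem_subgroupOf.1 (hmapL ⟨v, hv⟩ (htop ▸ mem_top _))
  refine Or.inr ⟨htop, (CfsgLib.Signalizer.stronglyEmbedded_iff_conj _).2 ⟨htop, ?_, ?_⟩⟩
  · obtain ⟨u, hu, hu2⟩ := hU
    set u₀ : X := ⟨u, P.sylow_le_cen (P.le₁ hu)⟩
    have h2 : orderOf (piX K u₀) = 2 := orderOf_eq_two_of
      (fun h => involution_ne_one hu2 (congrArg Subtype.val (P.injective (u := u₀) hu h)))
      (by rw [← map_mul, show u₀ * u₀ = 1 from Subtype.ext (involution_sq hu2), map_one])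
    have h3 := Subgroup.orderOf_dvd_natCard (L.map (piX K))
      (mem_map_of_mem (piX K) (show u₀ ∈ L from mem_subgroupOf.2 (hSM (P.le₁ hu))))
    rw [h2] at h3
    exact even_iff_two_dvd.2 h3
  intro j hj hj2 q hq
  obtain ⟨v, hv, rfl⟩ := hj
  obtain ⟨k, rfl⟩ := piX_surjective K q
  obtain ⟨v', hv', e'⟩ := hq
  set T := S.subtype P.sylow_le_cen
  have hTL : (T : Subgroup X) ≤ L := fun t ht => mem_subgroupOf.2 (hSM (mem_subgroupOf.1 ht))
  obtain ⟨l, hl, t, ht, het⟩ := exists_sylow_preimage (piX K) T hTL hv (involution_sq hj2)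
  obtain ⟨l', hl', t', ht', het'⟩ := exists_sylow_preimage (piX K) T hTL hv' (by
    rw [e']; exact involution_sq ((orderOf_conj _ _).trans hj2))
  obtain ⟨u, hu, hu'⟩ := P.pi_of_cover (t := t) (mem_subgroupOf.1 ht)
  obtain ⟨u', hu1, hu1'⟩ := P.pi_of_cover (t := t') (mem_subgroupOf.1 ht')
  have hπu : piX K u = piX K l * piX K v * (piX K l)⁻¹ := by rw [← hu', het]
  have hu2 : orderOf u = 2 := by
    refine orderOf_eq_two_of (fun h1 => ?_) (P.injective (mul_mem hu hu) (by
      rw [map_mul, hπu]; exact involution_sq ((orderOf_conj _ _).trans hj2)))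
    rw [h1, map_one] at hπu
    exact involution_ne_one hj2 (conj_eq_one_iff.1 hπu.symm)
  obtain ⟨w, hw, hwe⟩ := P.lift_conj (k := l' * k * l⁻¹) hu hu1 hu2 (by
    rw [hπu, ← hu1', het', e', map_mul, map_mul, map_inv]; group)
  have hmem := hmove (u : G) hu (by rw [Subgroup.orderOf_coe]; exact hu2)
    ((w * (l' * k * l⁻¹) : X) : G) (w * (l' * k * l⁻¹)).2 (by
      have := congrArg Subtype.val hwe
      simp only [coe_mul, coe_inv] at this ⊢
      rw [this]; exact hSM (P.le₁ hu1))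
  have h1 : l' * k * l⁻¹ ∈ L :=
    (mul_mem_cancel_left (mem_subgroupOf.2 (hOM w hw))).1 (mem_subgroupOf.2 hmem)
  refine mem_map_of_mem _ ?_
  have h2 := mul_mem (mul_mem (inv_mem hl') h1) hl
  simpa [mul_assoc] using h2

end Pos

end CfsgLib.TwoFusion.AbelianFactor
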