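import Cfsg.Agent.Lib.Bender.Gen.Wiring
import Cfsg.Agent.Lib.TwoFusion.AbelianFactor.Embedded

/-!
Owner: helper2.  Abelian Sylow 2-subgroup and a strongly embedded subgroup: cores of involution
centralisers are trivial.
-/

set_option autoImplicit false
set_option linter.style.haveILetI false
set_option linter.unusedSectionVars false

namespace CfsgLib.TwoFusion.AbelianFactor

open Subgroup Cfsg MulAction
open CfsgLib.Signalizer (involution_sq involution_inv involution_ne_one orderOf_eq_two_of orderOf_conj)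
open CfsgLib.TwoFusion.DihedralProduct (oddCore_quotient_central coprime_two_group)
open CfsgLib.FTDep (coreCent coreCent_le coreCent_norm coreCent_odd)
open CfsgLib.Bender (BenderGen mem_of_commute_involution normalCore_le_oddCore faithful_of_core smallerOK)

universe u

variable {Y : Type u} [Group Y] [Finite Y]

theorem coreCent_eq_bot (hB : BenderGen.{u}) {M : Subgroup Y} (hM : IsStronglyEmbedded M)
    (hO : oddCore Y = ⊥) (T : Sylow 2 Y) (hTM : (T : Subgroup Y) ≤ M)
    (hab : ∀ a ∈ (T : Subgroup Y), ∀ b ∈ (T : Subgroup Y), Commute a b)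
    (htwo : ∃ s ∈ (T : Subgroup Y), ∃ t ∈ (T : Subgroup Y), orderOf s = 2 ∧ orderOf t = 2 ∧ s ≠ t)
    {j : Y} (hj : j ∈ (T : Subgroup Y)) (hj2 : orderOf j = 2) : coreCent ({j} : Set Y) = ⊥ := by
  haveI : Fact (Nat.Prime 2) := ⟨Nat.prime_two⟩
  obtain ⟨s, hs, t, ht, hs2, ht2, hne⟩ := htwo
  have hfour : ∃ s ∈ M, ∃ t ∈ M, orderOf s = 2 ∧ orderOf t = 2 ∧ s ≠ t ∧ s * t = t * s :=
    ⟨s, hTM hs, t, hTM ht, hs2, ht2, hne, (hab s hs t ht).eq⟩
  have hK : M.normalCore = ⊥ := le_bot_iff.1 ((normalCore_le_oddCore hM).trans hO.le)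
  obtain ⟨hS, hsol⟩ := hB Y M hM hfour
  obtain ⟨U, hUa, hUn, -, -, hU, -⟩ := hS.exists_regular (smallerOK _) (faithful_of_core hK) _ hsol
  rw [CfsgLib.Bender.stab_base] at hUa hUn
  have hU2 : IsPGroup 2 U := IsPGroup.of_card (n := CfsgLib.Bender.vp 2 (Nat.card Y)) hU
  have hUT : U ⊔ (T : Subgroup Y) = (T : Subgroup Y) :=
    T.3 (hU2.to_sup_of_normal_left' T.2 (hTM.trans hUn)) le_sup_right
  have hUeq : U = (T : Subgroup Y) := Subgroup.eq_of_le_of_card_ge (le_sup_left.trans hUT.le)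
    (by rw [hU, Sylow.card_eq_multiplicity T])
  rw [hUeq] at hUn
  -- the core of the centraliser centralises the Sylow subgroup
  set O := coreCent ({j} : Set Y) with hOdef
  have hTC : (T : Subgroup Y) ≤ centralizer ({j} : Set Y) := fun v hv =>
    mem_centralizer_singleton_iff.2 (hab v hv j hj).eq
  have hOM : O ≤ M := fun v hv => mem_of_commute_involution hM hj2 (hTM hj)
    (mem_centralizer_singleton_iff.1 (coreCent_le _ hv))
  set R := centralizer ((T : Subgroup Y) : Set Y) ⊓ M with hR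
  have hOR : O ≤ R := by
    refine le_inf (fun v hv => mem_centralizer_iff.2 fun a ha => ?_) hOM
    have h1 : a * v * a⁻¹ * v⁻¹ ∈ (T : Subgroup Y) ⊓ O := by
      refine ⟨?_, mul_mem ((mem_normalizer_iff.1 (coreCent_norm _ (hTC ha)) v).1 hv) (Subgroup.inv_mem _ hv)⟩
      rw [show a * v * a⁻¹ * v⁻¹ = a * (v * a⁻¹ * v⁻¹) by group]
      exact mul_mem ha ((mem_normalizer_iff.1 (hUn (hOM hv)) _).1 (Subgroup.inv_mem _ ha))
    rw [inf_eq_bot_of_coprime (coprime_two_group T.2 (coreCent_odd _)), mem_bot, mul_inv_eq_one,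
      mul_inv_eq_iff_eq_mul] at h1
    exact h1
  have hTR : (T : Subgroup Y) ≤ R :=
    le_inf (fun a ha => mem_centralizer_iff.2 fun b hb => (hab b hb a ha).eq) hTM
  have hRn : M ≤ normalizer (R : Set Y) := by
    rw [le_normalizer_iff]
    intro g hg v hv
    refine ⟨mem_centralizer_iff.2 fun a ha => ?_, Subgroup.mul_mem _ (Subgroup.mul_mem _ hg hv.2) (Subgroup.inv_mem _ hg)⟩
    have h1 : g⁻¹ * a * g ∈ (T : Subgroup Y) := by
      have := (mem_normalizer_iff.1 (hUn (inv_mem hg)) a).1 ha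
      simpa using this
    have h2 := mem_centralizer_iff.1 hv.1 _ h1
    calc a * (g * v * g⁻¹) = g * (g⁻¹ * a * g * v) * g⁻¹ := by group
      _ = g * (v * (g⁻¹ * a * g)) * g⁻¹ := by rw [h2]
      _ = _ := by group
  have hOM' : oddCore M = ⊥ := by
    have h := CfsgLib.Bender.core_in_core_of_benderGen hB hM
    rw [hO, le_bot_iff] at h
    exact (Subgroup.map_eq_bot_iff_of_injective _ M.subtype_injective).1 h
  have hORbot : oddCore R = ⊥ := by
    haveI : (R.subgroupOf M).Normal := (normal_subgroupOf_iff_le_normalizer inf_le_right).2 hRn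
    let e := subgroupOfEquivOfLe (inf_le_right : R ≤ M)
    have h2 := CfsgLib.Core.map_equiv_pPrimeCore (p := 2) e.symm
    have h3 := CfsgLib.Core.map_subtype_pPrimeCore_le (p := 2) (R.subgroupOf M)
    rw [show Cfsg.pPrimeCore 2 M = ⊥ from hOM', le_bot_iff,
      Subgroup.map_eq_bot_iff_of_injective _ (R.subgroupOf M).subtype_injective, ← h2,
      Subgroup.map_eq_bot_iff_of_injective _ e.symm.injective] at h3
    exact h3
  set Z := (T : Subgroup Y).subgroupOf R with hZ
  have hZc : Z ≤ center R := fun a ha => mem_center_iff.2 fun v =>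
    Subtype.ext (mem_centralizer_iff.1 v.2.1 a (mem_subgroupOf.1 ha)).symm
  haveI : Z.Normal := ⟨fun v hv q => by rwa [mem_center_iff.1 (hZc hv) q, mul_inv_cancel_right]⟩
  have hQ : oddCore (R ⧸ Z) = ⊥ :=
    oddCore_quotient_central Z hZc (T.2.comap_of_injective _ R.subtype_injective) hORbot
  have hodd : Odd (Nat.card (R ⧸ Z)) := by
    have hi : ¬ 2 ∣ Z.index := by
      have := (T.subtype hTR).not_dvd_index
      rwa [Sylow.coe_subtype] at this
    rw [← Subgroup.index_eq_card]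
    exact Nat.not_even_iff_odd.1 fun h => hi (even_iff_two_dvd.1 h)
  have htop : (⊤ : Subgroup (R ⧸ Z)) = ⊥ :=
    le_bot_iff.1 (hQ ▸ CfsgLib.ZStar.le_oddCore inferInstance
      (by rwa [Subgroup.card_top] : Odd (Nat.card (⊤ : Subgroup (R ⧸ Z)))))
  refine (eq_bot_iff_forall _).2 fun v hv => ?_
  have hvT : v ∈ (T : Subgroup Y) := by
    have h1 : QuotientGroup.mk' Z ⟨v, hOR hv⟩ ∈ (⊥ : Subgroup (R ⧸ Z)) := htop ▸ mem_top _
    exact mem_subgroupOf.1 ((QuotientGroup.eq_one_iff (⟨v, hOR hv⟩ : R)).1 (mem_bot.1 h1))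
  have hint : v ∈ (T : Subgroup Y) ⊓ O := ⟨hvT, hv⟩
  rwa [inf_eq_bot_of_coprime (coprime_two_group T.2 (coreCent_odd _)), mem_bot] at hint

end CfsgLib.TwoFusion.AbelianFactor
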