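import Cfsg.Agent.Lib.TwoFusion.AbelianFactor.Separated

/-!
Owner: helper2.  The subgroup attached to a commuting pair.

`Wn x y = Pc y x · [O(C(x)), y] · [O(C(xy)), y]`; it is odd and constant on commuting quadruples.
-/

set_option autoImplicit false
set_option linter.style.haveILetI false
set_option linter.unusedSectionVars false

namespace CfsgLib.TwoFusion.AbelianFactor

open Subgroup Cfsg
open CfsgLib.Signalizer (involution_sq involution_inv involution_ne_one orderOf_eq_two_of orderOf_conj)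
open CfsgLib.TwoFusion.DihedralProduct (involClass involClass_conj isPGroup_pair Pc norm_coreCent
  coprime_two_group centralizer_le_of_mem mem_closure_pair_cases card_closure_pair isElementaryAbelian_pair
  map_coreCent map_Pc)
open CfsgLib.FTDep (coreCent coreCent_le coreCent_norm coreCent_odd mem_coreCent_of)
open scoped commutatorElement

universe u

variable {G : Type u} [Group G] [Finite G]

/-- The subgroup of a pair. -/
def Wn (x y : G) : Subgroup G :=
  Pc y x ⊔ ⁅coreCent ({x} : Set G), zpowers y⁆ ⊔ ⁅coreCent ({x * y} : Set G), zpowers y⁆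

theorem map_Wn (g x y : G) :
    (Wn x y).map (MulAut.conj g).toMonoidHom = Wn (g * x * g⁻¹) (g * y * g⁻¹) := by
  unfold Wn
  rw [Subgroup.map_sup, Subgroup.map_sup, map_Pc, map_commutator, map_commutator, map_coreCent, map_coreCent,
    MonoidHom.map_zpowers, show g * (x * y) * g⁻¹ = g * x * g⁻¹ * (g * y * g⁻¹) by group]
  rfl

/-- For `b ∈ A` the factor of `A` in the functor is the whole of `O(C(b))`. -/
theorem full_factor {A : Subgroup G} (hA2 : IsPGroup 2 A) (hAc : ∀ a ∈ A, ∀ c ∈ A, Commute a c) {b : G}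
    (hb : b ∈ A) :
    coreCent ({b} : Set G) ≤ ⁅coreCent ({b} : Set G), A⁆ ⊔ (coreCent ({b} : Set G) ⊓ coreCent (A : Set G)) := by
  haveI : Fact (Nat.Prime 2) := ⟨Nat.prime_two⟩
  intro u hu
  have hn : A ≤ normalizer (coreCent ({b} : Set G) : Set G) := norm_coreCent fun a ha => hAc a ha b hb
  obtain ⟨v, hv, w, hw, rfl⟩ := CfsgLib.Core.exists_mul_centralizing hn
    (coprime_two_group hA2 (coreCent_odd _)) (Or.inl (Group.isSolvable_of_comm fun a c =>
      Subtype.ext (hAc a a.2 c c.2).eq)) hu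
  refine mul_mem (mem_sup_left hv) (mem_sup_right ⟨hw.1, ?_⟩)
  exact mem_coreCent_of hw.2 (Q := coreCent ({b} : Set G) ⊓ centralizer (A : Set G)) inf_le_right
    ((le_inf ((centralizer_le_of_mem hb).trans (coreCent_norm _)) le_normalizer).trans
      inf_normalizer_le_normalizer_inf)
    ((coreCent_odd _).of_dvd_nat (card_dvd_of_le inf_le_left)) hw

/-- The commutator with either factor of `u v` is the same on the core of `C(uv)`. -/
theorem commutator_eq_of_mixed {a b x : G} (ha : a * a = 1) (hb : b * b = 1)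
    (hx : x ∈ coreCent ({a * b} : Set G)) : ⁅x, a⁆ = ⁅x, b⁆ := by
  have hx' : Commute x (a * b) := mem_centralizer_singleton_iff.1 (coreCent_le _ hx)
  have hai : a⁻¹ = a := inv_eq_of_mul_eq_one_right ha
  have hbi : b⁻¹ = b := inv_eq_of_mul_eq_one_right hb
  have h3 : Commute x⁻¹ (a * b) := hx'.inv_left
  rw [commutatorElement_def, commutatorElement_def, hai, hbi]
  calc x * a * x⁻¹ * a = x * a * (x⁻¹ * (a * b)) * b := by
        rw [show x * a * (x⁻¹ * (a * b)) * b = x * a * x⁻¹ * a * (b * b) by group, hb, mul_one]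
    _ = x * a * ((a * b) * x⁻¹) * b := by rw [h3.eq]
    _ = x * (a * a) * b * x⁻¹ * b := by group
    _ = x * b * x⁻¹ * b := by rw [ha, mul_one]

theorem commutator_zpowers_le {O H : Subgroup G} {a : G} (ha : a * a = 1) (h : ∀ x ∈ O, ⁅x, a⁆ ∈ H) :
    ⁅O, zpowers a⁆ ≤ H := by
  rw [commutator_le]
  intro x hx c hc
  obtain ⟨i, rfl⟩ := mem_zpowers_iff.1 hc
  rcases Int.even_or_odd i with ⟨e, rfl⟩ | ⟨e, rfl⟩
  · rw [← two_mul, zpow_mul, zpow_two, ha, one_zpow, commutatorElement_one_right]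
    exact one_mem _
  · rw [zpow_add, zpow_mul, zpow_two, ha, one_zpow, one_mul, zpow_one]
    exact h x hx

namespace Fib

variable {S : Sylow 2 G} {D W : Subgroup G} (F : Fib S D W)

include F

theorem mem_four₁ {x x' : G} (hx : x ∈ D) (hx2 : orderOf x = 2) (hx' : x' ∈ D) (hx'2 : orderOf x' = 2)
    (hc : Commute x x') {a : G} (ha : a ∈ closure ({x, x'} : Set G)) (ha1 : a ≠ 1) : a ∈ involClass D :=
  F.mem_class₁ ((closure_le _).2 (by rintro v (rfl | rfl) <;> assumption) ha)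
    (orderOf_eq_two_of ha1 (by
      rw [← pow_two]
      exact (isElementaryAbelian_pair (involution_sq hx2) (involution_sq hx'2) hc).2 a ha))

/-- The core of the centraliser of a four-group in the first factor. -/
theorem coreCent_four {x x' : G} (hx : x ∈ D) (hx2 : orderOf x = 2) (hx' : x' ∈ D)
    (hx'2 : orderOf x' = 2) (hc : Commute x x') {z : G} (hz : z ∈ closure ({x, x'} : Set G))
    (hz1 : z ≠ 1) :
    coreCent ((closure ({x, x'} : Set G) : Subgroup G) : Set G) =
      coreCent ({z} : Set G) ⊓ centralizer ((closure ({x, x'} : Set G) : Subgroup G) : Set G) := by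
  set A := closure ({x, x'} : Set G) with hA
  have hzI := F.mem_four₁ hx hx2 hx' hx'2 hc hz hz1
  have hAel := isElementaryAbelian_pair (involution_sq hx2) (involution_sq hx'2) hc
  have hAz : ∀ a ∈ A, Commute a z := fun a ha => congrArg Subtype.val (hAel.1.1.comm ⟨a, ha⟩ ⟨z, hz⟩)
  have hCle : centralizer (A : Set G) ≤ centralizer ({z} : Set G) := centralizer_le_of_mem hz
  refine le_antisymm (le_inf ?_ (coreCent_le _)) ?_
  · set K := coreCent (A : Set G) with hK
    set Oz := coreCent ({z} : Set G) with hOz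
    set Cz := centralizer ({z} : Set G) with hCz
    set R := closure {g : G | g ∈ Cz ∧ Odd (orderOf g)} with hR
    have hKCz : K ≤ Cz := (coreCent_le _).trans hCle
    have hRC : R ≤ Cz := (closure_le _).2 fun g hg => hg.1
    have hoddR : ∀ B : Subgroup G, B ≤ Cz → Odd (Nat.card B) → B ≤ R := fun B hB ho b hb =>
      subset_closure ⟨hB hb, ho.of_dvd_nat (Subgroup.orderOf_dvd_natCard _ hb)⟩
    have hRn : Cz ≤ normalizer (R : Set G) := by
      rw [le_normalizer_iff]
      intro k hk v hv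
      have hle : R.map (MulAut.conj k).toMonoidHom ≤ R := by
        rw [hR, MonoidHom.map_closure]
        refine closure_mono ?_
        rintro _ ⟨g, hg, rfl⟩
        exact ⟨show k * g * k⁻¹ ∈ Cz from mul_mem (mul_mem hk hg.1) (inv_mem hk),
          show Odd (orderOf (k * g * k⁻¹)) by rw [orderOf_conj]; exact hg.2⟩
      exact hle (mem_map_of_mem _ hv)
    have hAn : A ≤ normalizer (Oz : Set G) := norm_coreCent hAz
    have hRle : R ≤ Oz ⊔ centralizer (A : Set G) := by
      refine (closure_le _).2 ?_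
      rintro g ⟨hg, hgo⟩
      obtain ⟨n, hn, h⟩ := CfsgLib.Core.exists_centralizing_in_coset hAn
        (coprime_two_group (isPGroup_pair (involution_sq hx2) (involution_sq hx'2) hc) (coreCent_odd _))
        (Or.inl (Group.isSolvable_of_comm fun a b => hAel.1.1.comm a b)) (k := g) (by
          intro d hd
          by_cases hd1 : d = 1
          · rw [hd1, one_mul, inv_one, mul_one, inv_mul_cancel]; exact one_mem _
          have hgz : Commute g (z * 1) := by rw [mul_one]; exact mem_centralizer_singleton_iff.1 hg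
          have hw := F.odd_sep hzI (Or.inl rfl) (F.mem_four₁ hx hx2 hx' hx'2 hc hd hd1) (hAz d hd)
            (Commute.one_right d) hgz hgo
          rw [mul_one] at hw
          have := (mem_normalizer_iff.1 (coreCent_norm _ (inv_mem hg)) _).1 (inv_mem hw)
          rw [show g⁻¹ * (g * d * g⁻¹ * d⁻¹)⁻¹ * g⁻¹⁻¹ = g⁻¹ * (d * g * d⁻¹) by group] at this
          exact this)
      have := mul_mem (mem_sup_right (S := Oz) h) (mem_sup_left (T := centralizer (A : Set G)) (inv_mem hn))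
      simpa using this
    have hOzK : Oz ≤ normalizer (K ⊔ Oz : Subgroup G) := le_sup_right.trans le_normalizer
    have hKn : K ≤ normalizer (Oz : Set G) := hKCz.trans (coreCent_norm _)
    have hsupodd : Odd (Nat.card (K ⊔ Oz : Subgroup G)) :=
      ((coreCent_odd _).mul (coreCent_odd _)).of_dvd_nat (CfsgLib.Core.card_sup_dvd K Oz hKn)
    have hsupC : K ⊔ Oz ≤ Cz := sup_le hKCz (coreCent_le _)
    have hsupR : K ⊔ Oz ≤ R := hoddR _ hsupC hsupodd
    have hRnorm : R ≤ normalizer (K ⊔ Oz : Subgroup G) := by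
      refine hRle.trans (sup_le hOzK ?_)
      exact le_trans (le_inf (coreCent_norm _) (hCle.trans (coreCent_norm _)))
        (normalizer_inf_normalizer_le_normalizer_sup K Oz)
    intro k hk
    haveI : ((K ⊔ Oz).subgroupOf R).Normal := (normal_subgroupOf_iff_le_normalizer hsupR).2 hRnorm
    haveI : (R.subgroupOf Cz).Normal := (normal_subgroupOf_iff_le_normalizer hRC).2 hRn
    have h1 : (K ⊔ Oz).subgroupOf R ≤ oddCore R := CfsgLib.ZStar.le_oddCore inferInstance
      (by rwa [Nat.card_congr (subgroupOfEquivOfLe hsupR).toEquiv])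
    have hkR : k ∈ R := hsupR (mem_sup_left hk)
    let e := subgroupOfEquivOfLe hRC
    have h2 : e.symm ⟨k, hkR⟩ ∈ oddCore (R.subgroupOf Cz) := by
      have h3 := CfsgLib.Core.map_equiv_pPrimeCore (p := 2) e.symm
      exact h3.le (mem_map_of_mem _ (h1 (mem_subgroupOf.2 (mem_sup_left hk))))
    exact mem_map_of_mem Cz.subtype (CfsgLib.Core.map_subtype_pPrimeCore_le (p := 2) (R.subgroupOf Cz)
      (mem_map_of_mem _ h2))
  · intro u hu
    exact mem_coreCent_of hu.2 (Q := coreCent ({z} : Set G) ⊓ centralizer (A : Set G)) inf_le_right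
      ((le_inf (hCle.trans (coreCent_norm _)) le_normalizer).trans inf_normalizer_le_normalizer_inf)
      ((coreCent_odd _).of_dvd_nat (card_dvd_of_le inf_le_left)) hu

/-- `C(z)` centralises the first four-group modulo the core, on elements of odd order. -/
theorem odd_pair {x x' : G} (hx : x ∈ D) (hx2 : orderOf x = 2) (hx' : x' ∈ D) (hx'2 : orderOf x' = 2)
    (hc : Commute x x') {z d : G} (hz : z ∈ closure ({x, x'} : Set G)) (hz1 : z ≠ 1)
    (hd : d ∈ closure ({x, x'} : Set G)) {g : G} (hg : Commute g z) (hgo : Odd (orderOf g)) :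
    g * d * g⁻¹ * d⁻¹ ∈ coreCent ({z} : Set G) := by
  by_cases hd1 : d = 1
  · rw [hd1, mul_one, mul_inv_cancel, inv_one, mul_one]; exact one_mem _
  have hAel := isElementaryAbelian_pair (involution_sq hx2) (involution_sq hx'2) hc
  have hgz : Commute g (z * 1) := by rwa [mul_one]
  have h := F.odd_sep (F.mem_four₁ hx hx2 hx' hx'2 hc hz hz1) (Or.inl rfl)
    (F.mem_four₁ hx hx2 hx' hx'2 hc hd hd1)
    (congrArg Subtype.val (hAel.1.1.comm ⟨d, hd⟩ ⟨z, hz⟩)) (Commute.one_right d) hgz hgo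
  rwa [mul_one] at h

/-- The first factor of the functor depends on any one involution of the four-group. -/
theorem pc_four {x x' : G} (hx : x ∈ D) (hx2 : orderOf x = 2) (hx' : x' ∈ D) (hx'2 : orderOf x' = 2)
    (hc : Commute x x') {z b : G} (hz : z ∈ closure ({x, x'} : Set G)) (hz1 : z ≠ 1)
    (hb : ∀ a ∈ closure ({x, x'} : Set G), Commute a b) :
    ⁅coreCent ({b} : Set G), closure ({x, x'} : Set G)⁆ ⊔
      (coreCent ({b} : Set G) ⊓ coreCent ((closure ({x, x'} : Set G) : Subgroup G) : Set G)) = Pc b z := by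
  rw [F.coreCent_four hx hx2 hx' hx'2 hc hz hz1]
  set A := closure ({x, x'} : Set G) with hA
  set Ob := coreCent ({b} : Set G) with hOb
  have hAel := isElementaryAbelian_pair (involution_sq hx2) (involution_sq hx'2) hc
  have hAz : ∀ a ∈ A, Commute a z := fun a ha => congrArg Subtype.val (hAel.1.1.comm ⟨a, ha⟩ ⟨z, hz⟩)
  have hzA : zpowers z ≤ A := zpowers_le.2 hz
  have hAn : A ≤ normalizer (Ob : Set G) := norm_coreCent hb
  have hP2 : IsPGroup 2 A := isPGroup_pair (involution_sq hx2) (involution_sq hx'2) hc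
  have hAn' : A ≤ normalizer ((Ob ⊓ coreCent ({z} : Set G) : Subgroup G) : Set G) :=
    (le_inf hAn (norm_coreCent hAz)).trans inf_normalizer_le_normalizer_inf
  unfold Pc
  refine le_antisymm (sup_le ?_ (inf_le_inf le_rfl inf_le_left |>.trans le_sup_right))
    (sup_le ((commutator_mono le_rfl hzA).trans le_sup_left) ?_)
  · rw [commutator_le]
    intro u hu d hd
    obtain ⟨v, hv, w, hw, rfl⟩ := CfsgLib.Core.exists_mul_centralizing (A := zpowers z) (K := Ob)
      (hzA.trans hAn) (coprime_two_group (hP2.to_le hzA) (coreCent_odd _))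
      (Or.inl inferInstance) hu
    have hPv : v ∈ ⁅Ob, zpowers z⁆ ⊔ Ob ⊓ coreCent ({z} : Set G) := mem_sup_left hv
    have hwz : Commute w z := (mem_centralizer_iff.1 hw.2 z (mem_zpowers z)).symm
    have hwd : ⁅w, d⁆ ∈ ⁅Ob, zpowers z⁆ ⊔ Ob ⊓ coreCent ({z} : Set G) := by
      refine mem_sup_right ⟨?_, ?_⟩
      · rw [commutatorElement_def, mul_assoc w d, mul_assoc]
        exact mul_mem hw.1 (CfsgLib.Core.conj_mem_of_le_normalizer hAn hd (inv_mem hw.1))
      · rw [commutatorElement_def]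
        exact F.odd_pair hx hx2 hx' hx'2 hc hz hz1 hd hwz
          ((coreCent_odd _).of_dvd_nat (Subgroup.orderOf_dvd_natCard _ hw.1))
    have hvd : ⁅v, d⁆ ∈ ⁅Ob, zpowers z⁆ ⊔ Ob ⊓ coreCent ({z} : Set G) := by
      rw [commutatorElement_def, mul_assoc v d, mul_assoc]
      refine mul_mem hPv (mem_sup_left ?_)
      have hdn : d ∈ normalizer ((⁅Ob, zpowers z⁆ : Subgroup G) : Set G) := by
        refine (?_ : A ≤ _) hd
        rw [le_normalizer_iff]
        intro a ha q hq
        have hle : (⁅Ob, zpowers z⁆).map (MulAut.conj a).toMonoidHom ≤ ⁅Ob, zpowers z⁆ := by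
          rw [map_commutator]
          refine commutator_mono ?_ ?_
          · rintro _ ⟨o, ho, rfl⟩
            exact CfsgLib.Core.conj_mem_of_le_normalizer hAn ha ho
          · rw [MonoidHom.map_zpowers, zpowers_le]
            show a * z * a⁻¹ ∈ zpowers z
            rw [(hAz a ha).eq, mul_inv_cancel_right]
            exact mem_zpowers z
        exact hle (mem_map_of_mem _ hq)
      exact (mem_normalizer_iff.1 hdn _).1 (inv_mem hv)
    rw [commutatorElement_mul_left_eq_conj_mul]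
    exact mul_mem (mul_mem (mul_mem hPv hwd) (inv_mem hPv)) hvd
  · intro u hu
    obtain ⟨v, hv, w, hw, rfl⟩ := CfsgLib.Core.exists_mul_centralizing (A := A)
      (K := Ob ⊓ coreCent ({z} : Set G)) hAn'
      (coprime_two_group hP2 ((coreCent_odd _).of_dvd_nat (card_dvd_of_le inf_le_left)))
      (Or.inl (Group.isSolvable_of_comm fun a b => hAel.1.1.comm a b)) hu
    exact mul_mem (mem_sup_left (commutator_mono inf_le_left le_rfl hv))
      (mem_sup_right ⟨hw.1.1, hw.1.2, hw.2⟩)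

/-- One odd subgroup is `Wn` of every pair in a quadruple, and is generated over the second four-group. -/
theorem exists_W (ih : Below.{u} (Nat.card G)) {x x' y y' : G} (hx : x ∈ D) (hx2 : orderOf x = 2)
    (hx' : x' ∈ D) (hx'2 : orderOf x' = 2) (hxne : x ≠ x') (hcx : Commute x x') (hy : y ∈ W)
    (hy2 : orderOf y = 2) (hy' : y' ∈ W) (hy'2 : orderOf y' = 2) (hyne : y ≠ y') :
    ∃ W₀ : Subgroup G, Odd (Nat.card W₀) ∧
      (∀ u ∈ closure ({x, x'} : Set G), u ≠ 1 → ∀ v ∈ closure ({y, y'} : Set G), v ≠ 1 → Wn u v = W₀) ∧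
      ∀ H : Subgroup G, (∀ v ∈ closure ({y, y'} : Set G), v ≠ 1 → Pc v x ≤ H) → W₀ ≤ H := by
  haveI : Fact (Nat.Prime 2) := ⟨Nat.prime_two⟩
  set A₁ := closure ({x, x'} : Set G) with hA₁
  set A₂ := closure ({y, y'} : Set G) with hA₂
  have hcy : Commute y y' := F.comm₂ y hy y' hy'
  have h₁ : A₁ ≤ D := (closure_le _).2 (by rintro v (rfl | rfl) <;> assumption)
  have h₂ : A₂ ≤ W := (closure_le _).2 (by rintro v (rfl | rfl) <;> assumption)
  have e₁ := isElementaryAbelian_pair (involution_sq hx2) (involution_sq hx'2) hcx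
  have e₂ := isElementaryAbelian_pair (involution_sq hy2) (involution_sq hy'2) hcy
  rw [← hA₁] at e₁
  rw [← hA₂] at e₂
  have k₁ : Nat.card A₁ = 4 := card_closure_pair hx2 hx'2 hcx hxne
  have k₂ : Nat.card A₂ = 4 := card_closure_pair hy2 hy'2 hcy hyne
  have hcs := F.coreSeparated ih h₁ h₂ e₁ e₂ k₁ k₂
  obtain ⟨hθC, hθo, hθinv, hbal⟩ := Cfsg.Agent.S1330.result A₁ A₂ hcs
  set θ : G → Subgroup G := fun a =>
    (⁅centralizerPPrimeCore 2 a, A₁⁆ ⊔ (centralizerPPrimeCore 2 a ⊓ coreCent (A₁ : Set G))) ⊓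
      (⁅centralizerPPrimeCore 2 a, A₂⁆ ⊔ (centralizerPPrimeCore 2 a ⊓ coreCent (A₂ : Set G))) with hθ
  have hodd : ∀ a ∈ A₁ ⊔ A₂, a ≠ 1 → Odd (Nat.card (θ a)) := fun a ha ha1 =>
    Nat.not_even_iff_odd.1 fun h => hθo a ha ha1 (even_iff_two_dvd.1 h)
  have hcomm : ∀ u ∈ A₁, ∀ v ∈ A₂, Commute u v := fun u hu v hv => F.commute (h₁ hu) (h₂ hv)
  have hn12 : A₁ ≤ normalizer (A₂ : Set G) := fun u hu =>
    centralizer_le_normalizer _ (mem_centralizer_iff.2 fun v hv => (hcomm u hu v hv).eq.symm)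
  have hinf : A₁ ⊓ A₂ = ⊥ := (eq_bot_iff_forall _).2 fun v hv => F.eq_one (h₁ hv.1) (h₂ hv.2)
  have hmul : ∀ a ∈ A₁ ⊔ A₂, ∃ u ∈ A₁, ∃ v ∈ A₂, a = u * v := fun a ha =>
    (CfsgLib.Core.mem_sup_iff_mul hn12).1 ha
  have hc₁ : ∀ u ∈ A₁, ∀ v ∈ A₁, Commute u v := fun u hu v hv =>
    congrArg Subtype.val (e₁.1.1.comm ⟨u, hu⟩ ⟨v, hv⟩)
  have hc₂ : ∀ u ∈ A₂, ∀ v ∈ A₂, Commute u v := fun u hu v hv => F.comm₂ u (h₂ hu) v (h₂ hv)
  have hAcomm : ∀ a ∈ A₁ ⊔ A₂, ∀ b ∈ A₁ ⊔ A₂, a * b = b * a := by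
    intro a ha b hb
    obtain ⟨u, hu, v, hv, rfl⟩ := hmul a ha
    obtain ⟨u', hu', v', hv', rfl⟩ := hmul b hb
    exact (((hc₁ u hu u' hu').mul_right (hcomm u hu v' hv')).mul_left
      ((hcomm u' hu' v hv).symm.mul_right (hc₂ v hv v' hv'))).eq
  have hAexp : ∀ a ∈ A₁ ⊔ A₂, a ^ 2 = 1 := fun a ha => by
    obtain ⟨u, hu, v, hv, rfl⟩ := hmul a ha
    rw [(hcomm u hu v hv).mul_pow, e₁.2 u hu, e₂.2 v hv, one_mul]
  have hArank : 2 ^ 3 ≤ Nat.card ↥(A₁ ⊔ A₂) := by
    rw [CfsgLib.Core.card_sup_of_disjoint A₁ A₂ hn12 hinf, k₁, k₂]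
    norm_num
  obtain ⟨hWo, hWfix⟩ := Cfsg.Agent.S0217.result (p := 2) (A₁ ⊔ A₂) hAcomm hAexp hArank θ hθC hθo hθinv
    (fun a ha ha1 => CfsgLib.OddLocal.FTFinal.odd_order_solvable (hodd a ha ha1)) hbal
  set W₀ := ⨆ a : {a : G // a ∈ A₁ ⊔ A₂ ∧ a ≠ 1}, θ a with hW
  have hodd₀ : Odd (Nat.card W₀) := Nat.not_even_iff_odd.1 fun h => hWo (even_iff_two_dvd.1 h)
  have hnd : ¬ 2 ∣ Nat.card W₀ := hWo
  have hle : ∀ a ∈ A₁ ⊔ A₂, a ≠ 1 → θ a ≤ W₀ := fun a ha ha1 =>
    le_iSup (fun a : {a : G // a ∈ A₁ ⊔ A₂ ∧ a ≠ 1} => θ a) ⟨a, ha, ha1⟩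
  have hAn : A₁ ⊔ A₂ ≤ normalizer (W₀ : Set G) := by
    rw [le_normalizer_iff]
    intro b hb k hk
    have hle' : W₀.map (MulAut.conj b).toMonoidHom ≤ W₀ := by
      rw [hW, Subgroup.map_iSup]
      refine iSup_le fun a => le_trans ?_ (le_iSup _ a)
      rintro _ ⟨k, hk, rfl⟩
      exact hθinv a a.2.1 a.2.2 b hb k hk
    exact hle' (mem_map_of_mem _ hk)
  have hfull₁ : ∀ u ∈ A₁, coreCent ({u} : Set G) ≤
      ⁅coreCent ({u} : Set G), A₁⁆ ⊔ (coreCent ({u} : Set G) ⊓ coreCent (A₁ : Set G)) := fun u hu =>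
    full_factor (S.2.to_le (h₁.trans F.le₁)) hc₁ hu
  have hfull₂ : ∀ v ∈ A₂, coreCent ({v} : Set G) ≤
      ⁅coreCent ({v} : Set G), A₂⁆ ⊔ (coreCent ({v} : Set G) ⊓ coreCent (A₂ : Set G)) := fun v hv =>
    full_factor (S.2.to_le (h₂.trans F.le₂)) hc₂ hv
  have hθv : ∀ u ∈ A₁, u ≠ 1 → ∀ v ∈ A₂, v ≠ 1 → θ v = Pc v u := by
    intro u hu hu1 v hv hv1
    show (⁅coreCent ({v} : Set G), A₁⁆ ⊔ (coreCent ({v} : Set G) ⊓ coreCent (A₁ : Set G))) ⊓
      (⁅coreCent ({v} : Set G), A₂⁆ ⊔ (coreCent ({v} : Set G) ⊓ coreCent (A₂ : Set G))) = _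
    have hp := F.pc_four hx hx2 hx' hx'2 hcx hu hu1 (fun a ha => hcomm a ha v hv) (b := v)
    rw [hA₁, hp]
    refine inf_eq_left.2 (le_trans ?_ (hfull₂ v hv))
    unfold Pc
    exact sup_le (CfsgLib.Core.commutator_le_of_normalizes
      (norm_coreCent fun a ha => by
        obtain ⟨k, rfl⟩ := mem_zpowers_iff.1 ha
        exact (hcomm u hu v hv).zpow_left k)) inf_le_left
  refine ⟨W₀, hodd₀, fun u hu hu1 v hv hv1 => ?_, fun H hH => ?_⟩
  · have huv : u * v ≠ 1 := fun h => hu1 (F.eq_one (h₁ hu) (by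
      rw [mul_eq_one_iff_eq_inv.1 h]; exact inv_mem (h₂ hv)))
    have hu2 : u * u = 1 := by rw [← pow_two]; exact e₁.2 u hu
    have hv2 : v * v = 1 := by rw [← pow_two]; exact e₂.2 v hv
    have hmem : u ∈ A₁ ⊔ A₂ ∧ v ∈ A₁ ⊔ A₂ := ⟨mem_sup_left hu, mem_sup_right hv⟩
    have h0 : ⁅coreCent ({u} : Set G), zpowers v⁆ ≤ θ u := by
      refine le_inf (le_trans ?_ (hfull₁ u hu)) ((commutator_mono le_rfl (zpowers_le.2 hv)).trans le_sup_left)
      exact CfsgLib.Core.commutator_le_of_normalizes (norm_coreCent fun a ha => by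
        obtain ⟨k, rfl⟩ := mem_zpowers_iff.1 ha
        exact (hcomm u hu v hv).symm.zpow_left k)
    have h1 : ⁅coreCent ({u * v} : Set G), zpowers v⁆ ≤ θ (u * v) :=
      le_inf (commutator_zpowers_le hv2 fun w hw => mem_sup_left (by
          rw [← commutator_eq_of_mixed hu2 hv2 hw]
          exact commutator_mem_commutator hw hu))
        ((commutator_mono le_rfl (zpowers_le.2 hv)).trans le_sup_left)
    unfold Wn
    refine le_antisymm (sup_le (sup_le ?_ (h0.trans (hle u hmem.1 hu1)))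
      (h1.trans (hle _ (mul_mem hmem.1 hmem.2) huv))) ?_
    · rw [← hθv u hu hu1 v hv hv1]; exact hle v hmem.2 hv1
    have hA₀ : closure ({u, v} : Set G) ≤ A₁ ⊔ A₂ := (closure_le _).2 (by
      rintro w (rfl | rfl); exacts [hmem.1, hmem.2])
    have huo : orderOf u = 2 := orderOf_eq_two_of hu1 hu2
    have hvo : orderOf v = 2 := orderOf_eq_two_of hv1 hv2
    refine CfsgLib.Signalizer.Solv.le_of_fixed_le (p := 2)
      (isElementaryAbelian_pair hu2 hv2 (hcomm u hu v hv)) ?_ (hA₀.trans hAn) hnd fun a ha ha1 => ?_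
    · rw [card_closure_pair huo hvo (hcomm u hu v hv) fun h => huv (by rw [h, hv2])]
      norm_num
    rw [hWfix a (hA₀ ha) ha1]
    -- split a fixed subgroup along `v`
    have hsplit : θ a ≤ ⁅coreCent ({a} : Set G), zpowers v⁆ ⊔ Pc v u := by
      intro w hw
      have hn : zpowers v ≤ normalizer (θ a : Set G) := le_normalizer_iff.2 fun c hc q hq =>
        hθinv a (hA₀ ha) ha1 c (mem_sup_right (zpowers_le.2 hv hc)) q hq
      obtain ⟨p, hp, q, hq, rfl⟩ := CfsgLib.Core.exists_mul_centralizing hn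
        (coprime_two_group (S.2.to_le ((zpowers_le.2 hv).trans (h₂.trans F.le₂))) (hodd a (hA₀ ha) ha1))
        (Or.inl inferInstance) hw
      refine mul_mem (mem_sup_left (commutator_mono ?_ le_rfl hp)) (mem_sup_right ?_)
      · intro r hr
        rcases hr with ⟨hr, -⟩
        refine (?_ : ⁅centralizerPPrimeCore 2 a, A₁⁆ ⊔
          (centralizerPPrimeCore 2 a ⊓ coreCent (A₁ : Set G)) ≤ coreCent ({a} : Set G)) hr
        exact sup_le (CfsgLib.Core.commutator_le_of_normalizes (norm_coreCent fun c hc =>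
          hAcomm c (mem_sup_left hc) a (hA₀ ha))) inf_le_left
      · rw [← hθv u hu hu1 v hv hv1]
        exact hbal a (hA₀ ha) ha1 v hmem.2 hv1 ⟨hq.1,
          mem_centralizer_singleton_iff.2 (mem_centralizer_iff.1 hq.2 v (mem_zpowers v)).symm⟩
    rcases mem_closure_pair_cases hu2 hv2 (hcomm u hu v hv) ha with rfl | rfl | rfl | rfl
    · exact absurd rfl ha1
    · exact hsplit.trans (sup_le (le_sup_of_le_left le_sup_right) (le_sup_of_le_left le_sup_left))
    · rw [hθv u hu hu1 a hv hv1]; exact le_sup_of_le_left le_sup_left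
    · exact hsplit.trans (sup_le le_sup_right (le_sup_of_le_left le_sup_left))
  · refine CfsgLib.Signalizer.Solv.le_of_fixed_le (p := 2) e₂ (by rw [k₂]; norm_num)
      (le_sup_right.trans hAn) hnd fun v hv hv1 => ?_
    rw [hWfix v (mem_sup_right hv) hv1, hθv x (subset_closure (Or.inl rfl)) (involution_ne_one hx2) v hv hv1]
    exact hH v hv hv1

end Fib

end CfsgLib.TwoFusion.AbelianFactor
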