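import Cfsg.Agent.Lib.TwoFusion.AbelianFactor.Basic

/-!
Owner: helper2.  Involutions of the first factor in the centralisers of mixed involutions.
-/

set_option autoImplicit false
set_option linter.style.haveILetI false
set_option linter.unusedSectionVars false

namespace CfsgLib.TwoFusion.AbelianFactor

open Subgroup Cfsg
open CfsgLib.Signalizer (involution_sq involution_inv involution_ne_one orderOf_eq_two_of orderOf_conj
  mul_pair_zpow)
open CfsgLib.TwoFusion.DihedralProduct (involClass involClass_conj Dih dih_of_equiv isPGroup_pair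
  conj_mem_coreCent exists_conj_of_mul_mem isPGroup_closure isPGroup_closure_two Fac Rot odd_centralizes_mod)
open CfsgLib.FTDep (coreCent coreCent_le coreCent_norm coreCent_odd)

universe u

variable {G : Type u} [Group G]

/-- An element of odd order whose square centralises `x` centralises `x`. -/
theorem commute_of_sq_commute {n x : G} (hn : Odd (orderOf n)) (h : Commute (n * n) x) : Commute n x := by
  obtain ⟨k, hk⟩ := hn
  have e : n = (n * n) ^ (k + 1) := by
    rw [← pow_two, ← pow_mul, show 2 * (k + 1) = orderOf n + 1 by omega, pow_succ, pow_orderOf_eq_one,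
      one_mul]
  rw [e]
  exact h.pow_left _

variable [Finite G]

/-- A Sylow subgroup of a centraliser carried into `S` around given 2-elements. -/
theorem exists_frame (S : Sylow 2 G) {a : G} {Q : Subgroup G} (hQ : IsPGroup 2 Q)
    (hQC : Q ≤ centralizer ({a} : Set G)) :
    ∃ g : G, (∀ q ∈ Q, g * q * g⁻¹ ∈ (S : Subgroup G)) ∧
      ∃ T : Sylow 2 (centralizer ({g * a * g⁻¹} : Set G)),
        (T : Subgroup (centralizer ({g * a * g⁻¹} : Set G))) = (S : Subgroup G).subgroupOf _ := by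
  haveI : Fact (Nat.Prime 2) := ⟨Nat.prime_two⟩
  set C := centralizer ({a} : Set G) with hC
  obtain ⟨T₀, hT₀⟩ := (hQ.comap_of_injective C.subtype C.subtype_injective).exists_le_sylow
  obtain ⟨g, hg⟩ := CfsgLib.Techniques.exists_conj_mem_sylow S (T₀.2.map C.subtype)
  refine ⟨g, fun q hq => hg q ⟨⟨q, hQC hq⟩, hT₀ (mem_subgroupOf.2 hq), rfl⟩, ?_⟩
  set C' := centralizer ({g * a * g⁻¹} : Set G) with hC'
  have hmem : ∀ c : G, c ∈ C → g * c * g⁻¹ ∈ C' := fun c hc => by
    rw [hC', mem_centralizer_singleton_iff]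
    rw [hC, mem_centralizer_singleton_iff] at hc
    calc g * c * g⁻¹ * (g * a * g⁻¹) = g * (c * a) * g⁻¹ := by group
      _ = _ := by rw [hc]; group
  let f : C →* C' := MonoidHom.mk' (fun c => ⟨g * c * g⁻¹, hmem c c.2⟩)
    fun b c => Subtype.ext (show g * ((b : G) * c) * g⁻¹ = g * b * g⁻¹ * (g * c * g⁻¹) by group)
  have hf : Function.Injective f := fun b c h => Subtype.ext
    (mul_left_cancel (mul_right_cancel (congrArg Subtype.val h :)))
  have hfs : Function.Surjective f := by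
    rintro ⟨c', hc'⟩
    refine ⟨⟨g⁻¹ * c' * g, ?_⟩, Subtype.ext (show g * (g⁻¹ * c' * g) * g⁻¹ = c' by group)⟩
    rw [hC, mem_centralizer_singleton_iff]
    rw [hC', mem_centralizer_singleton_iff] at hc'
    calc g⁻¹ * c' * g * a = g⁻¹ * (c' * (g * a * g⁻¹)) * g := by group
      _ = _ := by rw [hc']; group
  refine ⟨⟨(S : Subgroup G).subgroupOf C', S.2.comap_of_injective _ C'.subtype_injective, fun {R} hR hSR => ?_⟩, rfl⟩
  have h1 : R.comap f = T₀ := T₀.3 (hR.comap_of_injective f hf) fun t ht =>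
    hSR (mem_subgroupOf.2 (hg t ⟨t, ht, rfl⟩))
  refine le_antisymm (fun r hr => ?_) hSR
  obtain ⟨c, rfl⟩ := hfs r
  have hc : c ∈ (T₀ : Subgroup C) := h1 ▸ hr
  exact mem_subgroupOf.2 (hg c ⟨c, hc, rfl⟩)

namespace Fib

variable {S : Sylow 2 G} {D W : Subgroup G} (F : Fib S D W)

include F

/-- For commuting `x ∈ I₁`, `y ∈ I₂` the first is central modulo the core of `C(xy)`. -/
theorem isolated {x y : G} (hx : x ∈ involClass D) (hy : y ∈ involClass W) (hxy : Commute x y) {g : G}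
    (hg : Commute g (x * y)) : x * g * x⁻¹ * g⁻¹ ∈ coreCent ({x * y} : Set G) := by
  haveI : Fact (Nat.Prime 2) := ⟨Nat.prime_two⟩
  set C := centralizer ({x * y} : Set G) with hC
  have hxC : x ∈ C := mem_centralizer_singleton_iff.2 ((Commute.refl x).mul_right hxy).eq
  have hyC : y ∈ C := mem_centralizer_singleton_iff.2 (hxy.symm.mul_right (Commute.refl y)).eq
  set Q := closure ({x, y} : Set G) with hQ'
  have hQ : IsPGroup 2 Q := isPGroup_pair (involution_sq hx.1) (involution_sq hy.1) hxy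
  have hQC : Q ≤ C := (closure_le _).2 (by rintro a (rfl | rfl) <;> assumption)
  obtain ⟨T, hT⟩ := (hQ.comap_of_injective C.subtype C.subtype_injective).exists_le_sylow
  obtain ⟨h, hh⟩ := F.exists_conj (T.2.map C.subtype)
  have hin : ∀ q ∈ Q, h * q * h⁻¹ ∈ (S : Subgroup G) := fun q hq =>
    hh q ⟨⟨q, hQC hq⟩, hT (mem_subgroupOf.2 hq), rfl⟩
  have hx0 := F.conj_left hx (hin x (subset_closure (Or.inl rfl)))
  have hy0 := F.conj_right hy (hin y (subset_closure (Or.inr rfl)))
  refine mem_map_of_mem C.subtype (CfsgLib.ZStar.mem_oddCore_of_sylow T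
    (show orderOf (⟨x, hxC⟩ : C) = 2 by rw [Subgroup.orderOf_mk, hx.1])
    (hT (mem_subgroupOf.2 (subset_closure (Or.inl rfl)))) (fun k hk => Subtype.ext ?_)
    ⟨g, mem_centralizer_singleton_iff.2 hg.eq⟩)
  show (k : G) * x * (k : G)⁻¹ = x
  set x' := (k : G) * x * (k : G)⁻¹ with hx'
  have hkS : h * x' * h⁻¹ ∈ (S : Subgroup G) := hh _ ⟨_, hk, rfl⟩
  have hx1 : h * x' * h⁻¹ ∈ D := F.conj_left (involClass_conj hx _) hkS
  have hy' : (k : G) * y * (k : G)⁻¹ = x' * (x * y) := by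
    have hk' : (k : G) * (x * y) = x * y * k := mem_centralizer_singleton_iff.1 k.2
    calc (k : G) * y * (k : G)⁻¹ = x' * ((k : G) * (x * y) * (k : G)⁻¹) := by
          rw [hx', show (k : G) * x * (k : G)⁻¹ * ((k : G) * (x * y) * (k : G)⁻¹) =
            (k : G) * (x * x) * y * (k : G)⁻¹ by group, involution_sq hx.1, mul_one]
      _ = x' * (x * y) := by rw [hk', mul_inv_cancel_right]
  have hyS : h * ((k : G) * y * (k : G)⁻¹) * h⁻¹ ∈ (S : Subgroup G) := by
    rw [hy', show h * (x' * (x * y)) * h⁻¹ = h * x' * h⁻¹ * (h * x * h⁻¹) * (h * y * h⁻¹) by group]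
    exact mul_mem (mul_mem hkS (F.le₁ hx0)) (F.le₂ hy0)
  have hy1 := F.conj_right (involClass_conj hy _) hyS
  have e : h * x' * h⁻¹ * (h * x * h⁻¹) * (h * y * h⁻¹) = 1 * (h * ((k : G) * y * (k : G)⁻¹) * h⁻¹) := by
    rw [hy', one_mul]; group
  have h2 := (F.mul_unique (mul_mem hx1 hx0) (one_mem _) hy0 hy1 e).1
  rw [mul_eq_one_iff_eq_inv, conj_inv, involution_inv hx.1] at h2
  exact mul_left_cancel (mul_right_cancel h2)

/-- `C(xy) = O(C(xy)) C(x, y)`. -/
theorem cen_mixed {x y : G} (hx : x ∈ involClass D) (hy : y ∈ involClass W) (hxy : Commute x y) {g : G}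
    (hg : Commute g (x * y)) :
    ∃ u ∈ coreCent ({x * y} : Set G), Commute (u * g) x ∧ Commute (u * g) y := by
  have h1 := F.isolated hx hy hxy hg
  have hprod : x * (g * x * g⁻¹) ∈ coreCent ({x * y} : Set G) := by
    rw [involution_inv hx.1] at h1
    simpa [mul_assoc] using h1
  obtain ⟨u, hu, hux⟩ := exists_conj_of_mul_mem (coreCent_odd _) hx.1
    (show orderOf (g * x * g⁻¹) = 2 by rw [orderOf_conj]; exact hx.1) hprod
  have h2 : Commute (u⁻¹ * g) x := by
    show u⁻¹ * g * x = x * (u⁻¹ * g)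
    calc u⁻¹ * g * x = u⁻¹ * (g * x * g⁻¹) * g := by group
      _ = x * (u⁻¹ * g) := by rw [← hux]; group
  have h3 : Commute (u⁻¹ * g) (x * y) :=
    (show Commute u (x * y) from mem_centralizer_singleton_iff.1 (coreCent_le _ hu)).inv_left.mul_left hg
  refine ⟨u⁻¹, inv_mem hu, h2, ?_⟩
  have := h2.inv_right.mul_right h3
  rwa [inv_mul_cancel_left] at this

/-- A product of involutions of different classes has order twice odd, and its involution is mixed. -/
theorem pair_twice_odd {x y : G} (hx : x ∈ involClass D) (hy : y ∈ involClass W) :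
    ∃ q, Odd q ∧ orderOf (x * y) = 2 * q ∧
      ((x * y) ^ q * y ∈ involClass D ∧ Commute ((x * y) ^ q * y) y ∧ Commute ((x * y) ^ q) x) ∧
      (x * (x * y) ^ q ∈ involClass W ∧ Commute x (x * (x * y) ^ q) ∧ Commute ((x * y) ^ q) y) := by
  set r := x * y with hr
  have hx2 := hx.1
  have hy2 := hy.1
  have heven : Even (orderOf r) := by
    by_contra ho
    obtain ⟨d, -, hd⟩ := CfsgLib.Signalizer.exists_conj_of_odd hx2 hy2 (Nat.not_even_iff_odd.1 ho)
    exact F.not_mem (involClass_conj hx d) (hd ▸ hy)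
  obtain ⟨j, q, hq, hjq⟩ := Nat.exists_eq_pow_mul_and_not_dvd (orderOf_pos r).ne' 2 (by norm_num)
  have hqodd : Odd q := Nat.not_even_iff_odd.1 fun h => hq (even_iff_two_dvd.1 h)
  obtain ⟨t, ht⟩ := hqodd
  set w := x * r ^ q with hw
  have hwI : w ∈ involClass W := by
    have h1 : w = (r ^ t)⁻¹ * y * ((r ^ t)⁻¹)⁻¹ := by
      have h3 : x * r ^ t = (r ^ t)⁻¹ * x := by
        rw [← zpow_natCast, mul_pair_zpow hx2 hy2, zpow_neg]
      calc w = x * r ^ t * r * r ^ t := by
            rw [hw, ht, mul_assoc x, ← pow_succ, mul_assoc, ← pow_add]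
            congr 2; omega
        _ = (r ^ t)⁻¹ * (x * r) * r ^ t := by rw [h3]; group
        _ = _ := by rw [hr, ← mul_assoc x x y, involution_sq hx2, one_mul, inv_inv]
    rw [h1]
    exact involClass_conj hy _
  have hxw : x * w = r ^ q := by rw [hw, ← mul_assoc, involution_sq hx2, one_mul]
  have hdvd : orderOf (x * w) ∣ 2 ^ j := by
    rw [hxw]
    refine orderOf_dvd_of_pow_eq_one ?_
    rw [← pow_mul, mul_comm, ← hjq, pow_orderOf_eq_one]
  have hcomm := F.commute_of_pGroup (isPGroup_closure_two hx2 hwI.1 hdvd) hx hwI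
    (subset_closure (Or.inl rfl)) (subset_closure (Or.inr rfl))
  have hsq : r ^ (q * 2) = 1 := by
    rw [pow_mul, ← hxw, hcomm.mul_pow, pow_two, pow_two, involution_sq hx2, involution_sq hwI.1, one_mul]
  have hj1 : j = 1 := by
    have h1 : 2 ^ j * q ∣ q * 2 := hjq ▸ orderOf_dvd_of_pow_eq_one hsq
    rw [mul_comm q 2] at h1
    have h2 := Nat.le_of_dvd two_pos (Nat.dvd_of_mul_dvd_mul_right (by omega) h1)
    have hj0 : j ≠ 0 := fun h0 => by
      rw [h0, pow_zero, one_mul] at hjq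
      rw [hjq] at heven
      exact Nat.not_even_iff_odd.2 ⟨t, ht⟩ heven
    by_contra hne
    have : 2 ^ 2 ≤ 2 ^ j := Nat.pow_le_pow_right two_pos (by omega)
    omega
  rw [hj1, pow_one] at hjq
  have hdiv : orderOf r / 2 = q := by omega
  obtain ⟨-, hcx, hcy⟩ := CfsgLib.Signalizer.central_involution hx2 hy2 heven
  rw [← hr, hdiv] at hcx hcy
  refine ⟨q, ⟨t, ht⟩, hjq, ⟨?_, hcy.mul_left (Commute.refl y), hcx⟩, hwI, hcomm, hcy⟩
  obtain ⟨d, -, hd⟩ := CfsgLib.Signalizer.exists_conj_pair_zpow hx2 hy2 (t : ℤ)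
  have e : r ^ q * y = r ^ (2 * (t : ℤ)) * x := by
    rw [ht, pow_succ, mul_assoc, hr, mul_assoc x y y, involution_sq hy2, mul_one]
    norm_cast
  rw [e, hr, ← hd]
  exact involClass_conj hx d

theorem comm_of_homo {m : ℕ} (hm : Homo D m) {a b : G} (ha : a ∈ (S : Subgroup G))
    (hb : b ∈ (S : Subgroup G)) : Commute a b := by
  obtain ⟨u, hu, v, hv, rfl⟩ := F.exists_mul ha
  refine Commute.mul_left ?_ (F.central₂ hv hb).symm
  obtain ⟨u', hu', v', hv', rfl⟩ := F.exists_mul hb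
  exact (hm.comm hu hu').mul_right (F.commute hu hv')

/-- For a homocyclic first factor its involutions are central modulo the core in the centraliser of
an involution `u v`, `u ∈ D`. -/
theorem sep_homo {m : ℕ} (hm1 : 1 ≤ m) (hm : Homo D m) {u v d : G} (hu : u ∈ D) (hu2 : orderOf u = 2)
    (hv : v ∈ W) (hd : d ∈ D) (hd2 : orderOf d = 2) {g : G} (hg : Commute g (u * v)) :
    d * g * d⁻¹ * g⁻¹ ∈ coreCent ({u * v} : Set G) := by
  haveI : Fact (Nat.Prime 2) := ⟨Nat.prime_two⟩
  set C := centralizer ({u * v} : Set G) with hC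
  have hSC : (S : Subgroup G) ≤ C := fun s hs => mem_centralizer_singleton_iff.2
    (F.comm_of_homo hm hs (mul_mem (F.le₁ hu) (F.le₂ hv))).eq
  set T := S.subtype hSC with hT
  have hTmem : ∀ c : C, c ∈ (T : Subgroup C) ↔ (c : G) ∈ (S : Subgroup G) := fun c => by
    rw [hT, Sylow.coe_subtype, mem_subgroupOf]
  haveI : IsMulCommutative (T : Subgroup C) := ⟨⟨fun a b => Subtype.ext (Subtype.ext
    (F.comm_of_homo hm ((hTmem _).1 a.2) ((hTmem _).1 b.2)).eq)⟩⟩
  have hdC : d ∈ C := hSC (F.le₁ hd)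
  refine mem_map_of_mem C.subtype (CfsgLib.ZStar.mem_oddCore_of_sylow T
    (show orderOf (⟨d, hdC⟩ : C) = 2 by rw [Subgroup.orderOf_mk, hd2])
    ((hTmem _).2 (F.le₁ hd)) (fun k hk => ?_) ⟨g, mem_centralizer_singleton_iff.2 hg.eq⟩)
  obtain ⟨n, hn, he⟩ := T.conj_eq_normalizer_conj_of_mem (⟨d, hdC⟩ : C) k⁻¹
    ((hTmem _).2 (F.le₁ hd)) (by rw [inv_inv]; exact hk)
  rw [inv_inv] at he
  rw [he]
  -- `n` fixes `d`
  suffices h : Commute (n : G) d by
    refine Subtype.ext ?_
    show (n : G)⁻¹ * d * n = d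
    rw [mul_assoc, ← h.eq, inv_mul_cancel_left]
  set o := orderOf n with ho
  obtain ⟨j, q, hq, hjq⟩ := Nat.exists_eq_pow_mul_and_not_dvd (orderOf_pos n).ne' 2 (by norm_num)
  -- the 2-part of `n` lies in `S`
  have hnq : Commute ((n : G) ^ q) d := by
    have h2 : IsPGroup 2 (zpowers (n ^ q)) := IsPGroup.of_card (n := j) (by
      rw [Nat.card_zpowers, orderOf_pow, hjq, Nat.gcd_mul_left_left,
        Nat.mul_div_cancel _ (Nat.pos_of_ne_zero fun h => hq (by rw [h]; exact dvd_zero 2))])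
    have hmem : n ^ q ∈ (T : Subgroup C) := by
      have hle : zpowers (n ^ q) ⊔ (T : Subgroup C) ≤ (T : Subgroup C) :=
        (T.3 (h2.to_sup_of_normal_right' T.2 (zpowers_le.2 (pow_mem hn q))) le_sup_right).le
      exact hle (mem_sup_left (mem_zpowers _))
    have := F.comm_of_homo hm ((hTmem _).1 hmem) (F.le₁ hd)
    rwa [SubgroupClass.coe_pow] at this
  set n' := (n : G) ^ (2 ^ j) with hn'
  have hn'odd : Odd (orderOf n') := by
    rw [hn', orderOf_pow, Subgroup.orderOf_coe, hjq, Nat.gcd_mul_right_left,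
      Nat.mul_div_cancel_left _ (by positivity)]
    exact Nat.not_even_iff_odd.1 fun h => hq (even_iff_two_dvd.1 h)
  have hnorm : ∀ w : G, w ∈ (S : Subgroup G) → n' * w * n'⁻¹ ∈ (S : Subgroup G) := by
    intro w hw
    have := (mem_normalizer_iff.1 (pow_mem hn (2 ^ j)) ⟨w, hSC hw⟩).1 ((hTmem _).2 hw)
    have h' := (hTmem _).1 this
    simpa [hn'] using h'
  have hfixu : Commute n' u := by
    have h1 : n' * u * n'⁻¹ ∈ D := F.closed₁.2 u hu n' (hnorm u (F.le₁ hu))
    have h2 : n' * v * n'⁻¹ ∈ W := F.closed₂.2 v hv n' (hnorm v (F.le₂ hv))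
    have hcn : Commute n' (u * v) := by
      have : Commute (n : G) (u * v) := mem_centralizer_singleton_iff.1 n.2
      exact this.pow_left _
    have e : n' * u * n'⁻¹ * (n' * v * n'⁻¹) = u * v := by
      rw [show n' * u * n'⁻¹ * (n' * v * n'⁻¹) = n' * (u * v) * n'⁻¹ by group, hcn.eq, mul_inv_cancel_right]
    exact mul_inv_eq_iff_eq_mul.1 (F.mul_unique h1 hu h2 hv e).1
  have hfix : Commute n' d := by
    obtain ⟨s, hs, t, ht, hs2, ht2, hst, hall⟩ := hm.involutions hm1
    refine commute_of_sq_commute hn'odd ?_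
    set d' := n' * d * n'⁻¹ with hd'
    have hd'D : d' ∈ D := F.closed₁.2 d hd n' (hnorm d (F.le₁ hd))
    set d'' := n' * d' * n'⁻¹ with hd''
    have hd''D : d'' ∈ D := F.closed₁.2 d' hd'D n' (hnorm d' (F.le₁ hd'D))
    have hsq : ∀ w, orderOf w = 2 → ∀ a : G, a * w * a⁻¹ * (a * w * a⁻¹) = 1 ∧ a * w * a⁻¹ ≠ 1 :=
      fun w hw a => ⟨involution_sq ((orderOf_conj a w).trans hw),
        involution_ne_one ((orderOf_conj a w).trans hw)⟩
    have h3 : d'' = d := by
      by_cases hdu : d = u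
      · rw [hd'', hd', hdu, hfixu.eq, mul_inv_cancel_right, hfixu.eq, mul_inv_cancel_right]
      have hd'u : d' ≠ u := fun h => hdu (mul_left_cancel (mul_right_cancel
        (show n' * d * n'⁻¹ = n' * u * n'⁻¹ by rw [← hd', h, hfixu.eq, mul_inv_cancel_right])))
      have hd''u : d'' ≠ u := fun h => hd'u (mul_left_cancel (mul_right_cancel
        (show n' * d' * n'⁻¹ = n' * u * n'⁻¹ by rw [← hd'', h, hfixu.eq, mul_inv_cancel_right])))
      by_contra hne
      have hd'd : d' ≠ d := fun h => hne (by rw [hd'', h, ← hd', h])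
      have hd''d' : d'' ≠ d' := fun h => hd'd (mul_left_cancel (mul_right_cancel
        (show n' * d' * n'⁻¹ = n' * d * n'⁻¹ by rw [← hd'', h, hd'])))
      have e2 := (hsq d hd2 n')
      have e3 := (hsq d' (by rw [hd', orderOf_conj]; exact hd2) n')
      rw [← hd'] at e2
      rw [← hd''] at e3
      rcases hall u hu (involution_sq hu2) with a | a | a | a
      on_goal 1 => exact involution_ne_one hu2 a
      all_goals rcases hall d hd (involution_sq hd2) with b | b | b | b
      all_goals try exact involution_ne_one hd2 b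
      all_goals rcases hall d' hd'D e2.1 with c | c | c | c
      all_goals try exact e2.2 c
      all_goals rcases hall d'' hd''D e3.1 with f | f | f | f
      all_goals first
        | exact e3.2 f
        | exact hdu (b.trans a.symm)
        | exact hd'u (c.trans a.symm)
        | exact hd''u (f.trans a.symm)
        | exact hd'd (c.trans b.symm)
        | exact hd''d' (f.trans c.symm)
        | exact hne (f.trans b.symm)
    show n' * n' * d = d * (n' * n')
    calc n' * n' * d = d'' * (n' * n') := by rw [hd'', hd']; group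
      _ = _ := by rw [h3]
  -- assemble
  obtain ⟨i, l, hil⟩ : ∃ i l : ℤ, i * (2 ^ j : ℕ) + l * q = 1 := by
    have hcop : Nat.Coprime (2 ^ j) q := (Nat.prime_two.coprime_iff_not_dvd.2 hq).pow_left j
    exact (Nat.isCoprime_iff_coprime.2 hcop)
  have e : (n : G) = n' ^ i * ((n : G) ^ q) ^ l := by
    rw [hn', ← zpow_natCast (n : G) (2 ^ j), ← zpow_natCast (n : G) q, ← zpow_mul, ← zpow_mul, ← zpow_add,
      mul_comm _ i, mul_comm _ l, hil, zpow_one]
  rw [e]
  exact (hfix.zpow_left _).mul_left (hnq.zpow_left _)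

/-- Odd elements of `C(uv)` centralise modulo the core the involutions of `I₁` commuting with `u`, `v`. -/
theorem odd_sep {u v d : G} (hu : u ∈ involClass D) (hv : v = 1 ∨ v ∈ involClass W ∧ Commute u v)
    (hd : d ∈ involClass D) (hdu : Commute d u) (hdv : Commute d v) {g : G} (hg : Commute g (u * v))
    (hgo : Odd (orderOf g)) : g * d * g⁻¹ * d⁻¹ ∈ coreCent ({u * v} : Set G) := by
  haveI : Fact (Nat.Prime 2) := ⟨Nat.prime_two⟩
  have hvsq : v * v = 1 := by
    rcases hv with rfl | ⟨hv, -⟩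
    exacts [one_mul _, involution_sq hv.1]
  have huv : Commute u v := by
    rcases hv with rfl | ⟨-, h⟩
    exacts [Commute.one_right _, h]
  have hQ : IsPGroup 2 (closure ({u, v, d} : Set G)) := by
    refine isPGroup_closure ?_ ?_
    · rintro a (rfl | rfl | rfl)
      exacts [involution_sq hu.1, hvsq, involution_sq hd.1]
    · rintro a (rfl | rfl | rfl) b (rfl | rfl | rfl) <;>
        first
          | exact Commute.refl _ | exact huv | exact huv.symm | exact hdu | exact hdu.symm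
          | exact hdv | exact hdv.symm
  have hQC : closure ({u, v, d} : Set G) ≤ centralizer ({u * v} : Set G) := by
    refine (closure_le _).2 ?_
    rintro a (rfl | rfl | rfl) <;> refine mem_centralizer_singleton_iff.2 ?_
    exacts [((Commute.refl _).mul_right huv).eq, (huv.symm.mul_right (Commute.refl _)).eq,
      (hdu.mul_right hdv).eq]
  obtain ⟨h, hh, T, hT⟩ := exists_frame S hQ hQC
  have hu0 := F.conj_left hu (hh u (subset_closure (Or.inl rfl)))
  have hd0 := F.conj_left hd (hh d (subset_closure (Or.inr (Or.inr rfl))))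
  have hv0 : h * v * h⁻¹ ∈ W := by
    rcases hv with rfl | ⟨hv', -⟩
    · rw [mul_one, mul_inv_cancel]; exact one_mem _
    · exact F.conj_right hv' (hh _ (subset_closure (Or.inr (Or.inl rfl))))
  have heq : h * (u * v) * h⁻¹ = h * u * h⁻¹ * (h * v * h⁻¹) := by group
  set u₀ := h * u * h⁻¹ with hu₀
  set v₀ := h * v * h⁻¹ with hv₀
  set d₀ := h * d * h⁻¹ with hd₀
  set g₀ := h * g * h⁻¹ with hg₀
  have hg0 : Commute g₀ (u₀ * v₀) := by
    rw [← heq]; exact hg.map (MulAut.conj h).toMonoidHom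
  have hg0o : Odd (orderOf g₀) := by rw [hg₀, orderOf_conj]; exact hgo
  have hu2 : orderOf u₀ = 2 := (orderOf_conj h u).trans hu.1
  have hd2 : orderOf d₀ = 2 := (orderOf_conj h d).trans hd.1
  suffices key : g₀ * d₀ * g₀⁻¹ * d₀⁻¹ ∈ coreCent ({u₀ * v₀} : Set G) by
    have h1 := conj_mem_coreCent h⁻¹ key
    rwa [← heq, show h⁻¹ * (h * (u * v) * h⁻¹) * h⁻¹⁻¹ = u * v by group, hg₀, hd₀,
      show h⁻¹ * (h * g * h⁻¹ * (h * d * h⁻¹) * (h * g * h⁻¹)⁻¹ * (h * d * h⁻¹)⁻¹) * h⁻¹⁻¹ =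
        g * d * g⁻¹ * d⁻¹ by group] at h1
  rcases F.good with ⟨m, hm1, hm⟩ | ⟨n, hn, ⟨e⟩⟩
  · have h1 := inv_mem (F.sep_homo hm1 hm hu0 hu2 hv0 hd0 hd2 hg0)
    rwa [show (d₀ * g₀ * d₀⁻¹ * g₀⁻¹)⁻¹ = g₀ * d₀ * g₀⁻¹ * d₀⁻¹ by group] at h1
  have hdih : Dih D := dih_of_equiv F.pgroup₁ (Nat.le_self_pow (by omega) 2) e
  set C := centralizer ({u₀ * v₀} : Set G) with hC
  obtain ⟨T', hT'⟩ : ∃ T' : Sylow 2 C, (T' : Subgroup C) = (S : Subgroup G).subgroupOf _ := by
    rw [hC, ← heq]; exact ⟨T, hT⟩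
  obtain ⟨k, r, R, hr, s, hs, hsr⟩ := hdih.cen_rot hu0 hu2
  have hDC : ∀ a ∈ D ⊓ centralizer ({u₀} : Set G), a ∈ C := fun a ha =>
    mem_centralizer_singleton_iff.2
      ((show Commute a u₀ from mem_centralizer_singleton_iff.1 ha.2).mul_right (F.commute ha.1 hv0)).eq
  set D₀ := (D ⊓ centralizer ({u₀} : Set G)).subgroupOf C with hD₀
  have hzp : ∀ a : C, a ∈ zpowers (⟨r, hDC r R.mem⟩ : C) ↔ (a : G) ∈ zpowers r := fun a => by
    simp only [mem_zpowers_iff, Subtype.ext_iff, SubgroupClass.coe_zpow]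
  have R' : Rot D₀ k (⟨r, hDC r R.mem⟩ : C) := by
    refine ⟨R.pos, mem_subgroupOf.2 R.mem, by rw [Subgroup.orderOf_mk, R.order], ?_, ?_, ?_⟩
    · exact fun a ha ha' => Subtype.ext (R.sq _ (mem_subgroupOf.1 ha) fun h' => ha' ((hzp a).2 h'))
    · exact fun a ha ha' => Subtype.ext (R.inv _ (mem_subgroupOf.1 ha) fun h' => ha' ((hzp a).2 h'))
    · exact fun a ha ha' b hb hb' => (hzp _).2 (R.two _ (mem_subgroupOf.1 ha)
        (fun h' => ha' ((hzp a).2 h')) _ (mem_subgroupOf.1 hb) fun h' => hb' ((hzp b).2 h'))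
  have hinT : ∀ a : C, a ∈ (T' : Subgroup C) ↔ (a : G) ∈ (S : Subgroup G) := fun a => by
    rw [hT', mem_subgroupOf]
  have hau : ∀ a : C, a ∈ (T' : Subgroup C) → Commute (a : G) u₀ := by
    intro a ha
    obtain ⟨b, hb, w, hw, e'⟩ := F.exists_mul ((hinT a).1 ha)
    have h2 : Commute (a : G) (u₀ * v₀) := mem_centralizer_singleton_iff.1 a.2
    have h3 : Commute (a : G) v₀ := F.central₂ hv0 ((hinT a).1 ha)
    have := h2.mul_right h3.inv_right
    rwa [mul_inv_cancel_right] at this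
  have Fc : Fac (T' : Subgroup C) D₀ (W.subgroupOf C) := by
    refine ⟨fun a ha => (hinT a).2 (F.le₁ (inf_le_left (b := centralizer ({u₀} : Set G)) (mem_subgroupOf.1 ha))),
      fun a ha => (hinT a).2 (F.le₂ (mem_subgroupOf.1 ha)),
      fun a ha w hw => Subtype.ext (F.commute (inf_le_left (b := centralizer ({u₀} : Set G))
        (mem_subgroupOf.1 ha)) (mem_subgroupOf.1 hw)).eq,
      fun a ha hw => Subtype.ext (F.eq_one (inf_le_left (b := centralizer ({u₀} : Set G))
        (mem_subgroupOf.1 ha)) (mem_subgroupOf.1 hw)), fun a ha => ?_, fun a ha _ b hb => ?_⟩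
    · obtain ⟨b, hb, w, hw, e'⟩ := F.exists_mul ((hinT a).1 ha)
      have hbu : Commute b u₀ := by
        have e'' : b = (a : G) * w⁻¹ := by rw [e', mul_inv_cancel_right]
        rw [e'']
        exact (hau a ha).mul_left (F.central₂ hw (F.le₁ hu0)).symm.inv_left
      have hbD : b ∈ D ⊓ centralizer ({u₀} : Set G) := ⟨hb, mem_centralizer_singleton_iff.2 hbu.eq⟩
      exact ⟨⟨b, hDC b hbD⟩, mem_subgroupOf.2 hbD, ⟨b, hDC b hbD⟩⁻¹ * a, mem_subgroupOf.2 (by
        show b⁻¹ * (a : G) ∈ W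
        rw [e', inv_mul_cancel_left]; exact hw), by group⟩
    · exact mem_subgroupOf.2 ⟨F.closed₁.2 _ (mem_subgroupOf.1 ha).1 _ ((hinT _).1 hb),
        mem_centralizer_singleton_iff.2 (hau _ hb).eq⟩
  have hiso : ∀ c : G, Commute c (u₀ * v₀) → u₀ * c * u₀⁻¹ * c⁻¹ ∈ coreCent ({u₀ * v₀} : Set G) := by
    intro c hc
    rcases hv with hv1 | ⟨hv', -⟩
    · have h1 : v₀ = 1 := by rw [hv₀, hv1, mul_one, mul_inv_cancel]
      rw [h1, mul_one] at hc
      rw [hc.eq.symm, mul_inv_cancel_right, mul_inv_cancel]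
      exact one_mem _
    · exact F.isolated (F.mem_class₁ hu0 hu2) (involClass_conj hv' h) (F.commute hu0 hv0) hc
  have hdc : Commute d₀ u₀ := hdu.map (MulAut.conj h).toMonoidHom
  have hdD : d₀ ∈ D ⊓ centralizer ({u₀} : Set G) := ⟨hd0, mem_centralizer_singleton_iff.2 hdc.eq⟩
  exact mem_map_of_mem C.subtype (odd_centralizes_mod T' Fc R'
    ⟨⟨s, hDC s hs⟩, mem_subgroupOf.2 hs, fun hm => hsr ((hzp _).1 hm)⟩
    (fun c => by
      obtain ⟨w, hw, hwe⟩ := hiso c (mem_centralizer_singleton_iff.1 c.2)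
      refine (congrArg (· ∈ oddCore _) (Subtype.ext ?_ : w = _)).mp hw
      simp only [coe_mul, coe_inv, SubgroupClass.coe_pow, hr]
      exact hwe)
    (h := ⟨g₀, mem_centralizer_singleton_iff.2 hg0.eq⟩) (by rwa [Subgroup.orderOf_mk])
    (d := ⟨d₀, hDC _ hdD⟩) (mem_subgroupOf.2 hdD))

end Fib

end CfsgLib.TwoFusion.AbelianFactor
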