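import Cfsg.Agent.Lib.TwoFusion.AbelianFactor.BenderCore
import Cfsg.Agent.S0949

/-!
Owner: helper2.  One of the two classes lies in `M`.
-/

set_option autoImplicit false
set_option linter.style.haveILetI false
set_option linter.unusedSectionVars false

namespace CfsgLib.TwoFusion.AbelianFactor

open Subgroup Cfsg
open CfsgLib.Signalizer (involution_sq involution_inv involution_ne_one orderOf_eq_two_of orderOf_conj)
open CfsgLib.TwoFusion.DihedralProduct (involClass involClass_conj map_eq_iff map_coreCent Pc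
  eq_top_of_centralizers_le exists_conj_of_mul_mem norm_coreCent coprime_two_group card_closure_pair
  isElementaryAbelian_pair centralizer_le_of_mem)
open CfsgLib.FTDep (coreCent coreCent_le coreCent_norm coreCent_odd)
open CfsgLib.Bender (BenderGen)
open scoped commutatorElement

universe u

variable {G : Type u} [Group G] [Finite G]

/-- An involution centralising `A` modulo the core of `C(c)` is conjugate in the core to one
centralising `A`. -/
theorem exists_conj_centralizing {c v : G} {A : Subgroup G} (hA2 : IsPGroup 2 A)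
    (hAc : ∀ a ∈ A, ∀ d ∈ A, Commute a d) (hA : A ≤ centralizer ({c} : Set G)) (hv : orderOf v = 2)
    (hvc : Commute v c) (h : ∀ d ∈ A, v * d * v⁻¹ * d⁻¹ ∈ coreCent ({c} : Set G)) :
    ∃ u ∈ coreCent ({c} : Set G), u * v * u⁻¹ ∈ centralizer (A : Set G) := by
  haveI : Fact (Nat.Prime 2) := ⟨Nat.prime_two⟩
  set O := coreCent ({c} : Set G) with hO
  have hvn : v ∈ normalizer (O : Set G) := coreCent_norm _ (mem_centralizer_singleton_iff.2 hvc.eq)
  obtain ⟨n, hn, hvnA⟩ := CfsgLib.Core.exists_centralizing_in_coset (A := A) (N := O)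
    (norm_coreCent fun a ha => mem_centralizer_singleton_iff.1 (hA ha))
    (coprime_two_group hA2 (coreCent_odd _))
    (Or.inl (Group.isSolvable_of_comm fun a d => Subtype.ext (hAc a a.2 d d.2).eq)) (k := v) (by
      intro a ha
      have e : v⁻¹ * (a * v * a⁻¹) = v * a * v⁻¹ * a⁻¹ := by rw [involution_inv hv]; group
      rw [e]; exact h a ha)
  set w := v * n with hw
  set q := Nat.card O with hq
  obtain ⟨i, hi⟩ : Odd q := coreCent_odd _
  have hw2 : w * w ∈ O := by
    rw [hw, show v * n * (v * n) = (v * n * v⁻¹) * ((v * v) * n) by group, involution_sq hv, one_mul]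
    exact mul_mem ((mem_normalizer_iff.1 hvn n).1 hn) hn
  have hwq : w ^ q * w ^ q = 1 := by
    rw [← (Commute.refl w).mul_pow]
    exact congrArg Subtype.val (pow_card_eq_one' (x := (⟨_, hw2⟩ : O)))
  have hvw : v * w ^ q ∈ O := by
    rw [hi, pow_succ, pow_mul, pow_two, hw, show v * ((v * n * (v * n)) ^ i * (v * n)) =
      v * (v * n * (v * n)) ^ i * v⁻¹ * ((v * v) * n) by group, involution_sq hv, one_mul]
    exact mul_mem ((mem_normalizer_iff.1 hvn _).1 (pow_mem (hw ▸ hw2) i)) hn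
  have hne : w ^ q ≠ 1 := by
    intro h1
    rw [h1, mul_one] at hvw
    have := (coreCent_odd ({c} : Set G)).of_dvd_nat (Subgroup.orderOf_dvd_natCard _ hvw)
    rw [hv] at this
    exact absurd this (by decide)
  obtain ⟨u, hu, hue⟩ := exists_conj_of_mul_mem (coreCent_odd _) hv (orderOf_eq_two_of hne hwq) hvw
  exact ⟨u, hu, hue ▸ pow_mem hvnA q⟩

theorem Homo.sq_one {D : Subgroup G} (h : Homo D 1) {d : G} (hd : d ∈ D) : d * d = 1 := by
  obtain ⟨e⟩ := h
  have hp : ∀ p : ZMod (2 ^ 1) × ZMod (2 ^ 1), p + p = 0 := by decide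
  exact congrArg Subtype.val (e.injective (by
    rw [map_mul, map_one, ← ofAdd_toAdd (e ⟨d, hd⟩), ← ofAdd_add, hp, ofAdd_zero]) :
    (⟨d, hd⟩ : D) * ⟨d, hd⟩ = 1)

namespace Base

variable {S : Sylow 2 G} {D W : Subgroup G} {z b : G} (B : Base S D W z b)

include B

theorem pos : Pos S D W :=
  ⟨B.fib.le₁, B.fib.le₂, fun _ hs _ ha => B.fib.central₂ ha hs, fun _ h1 h2 => B.fib.eq_one h1 h2,
    fun _ hs => B.fib.exists_mul hs, fun u hu _ g hg => B.fib.closed₁.2 u hu g hg⟩

theorem pos' {m : ℕ} (hm : Homo D m) : Pos S W D := by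
  refine ⟨B.fib.le₂, B.fib.le₁, fun s hs a ha => B.fib.comm_of_homo hm hs (B.fib.le₁ ha),
    fun a h1 h2 => B.fib.eq_one h2 h1, fun s hs => ?_, fun u hu _ g hg => B.fib.closed₂.2 u hu g hg⟩
  obtain ⟨u, hu, v, hv, rfl⟩ := B.fib.exists_mul hs
  exact ⟨v, hv, u, hu, (B.fib.commute hu hv).eq⟩

theorem four₁ : ∃ A : Subgroup G, A ≤ D ∧ IsElementaryAbelian 2 A ∧ Nat.card A = 4 := by
  obtain ⟨z', hz', hz'2, hne, hc⟩ := B.fib.good.exists_partner B.fib.pgroup₁ B.mem₁ B.ord₁
  exact ⟨closure {z, z'}, (closure_le _).2 (by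
    rintro v (rfl | rfl)
    exacts [B.mem₁, hz']), isElementaryAbelian_pair (involution_sq B.ord₁) (involution_sq hz'2) hc,
    card_closure_pair B.ord₁ hz'2 hc hne.symm⟩

theorem four₂ : ∃ A : Subgroup G, A ≤ W ∧ IsElementaryAbelian 2 A ∧ Nat.card A = 4 := by
  obtain ⟨y', hy', hy'2, hne⟩ := B.two b B.mem₂ B.ord₂
  have hc : Commute b y' := B.fib.comm₂ b B.mem₂ y' hy'
  exact ⟨closure {b, y'}, (closure_le _).2 (by
    rintro v (rfl | rfl)
    exacts [B.mem₂, hy']), isElementaryAbelian_pair (involution_sq B.ord₂) (involution_sq hy'2) hc,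
    card_closure_pair B.ord₂ hy'2 hc hne.symm⟩

/-- `O(C(W)) ≤ M`. -/
theorem coreW_le {o : centralizer (W : Set G)} (ho : o ∈ oddCore (centralizer (W : Set G))) :
    (o : G) ∈ bigN z b := by
  haveI : Fact (Nat.Prime 2) := ⟨Nat.prime_two⟩
  obtain ⟨A, hAD, hAe, hA4⟩ := B.four₁
  have hAX : A ≤ centralizer (W : Set G) := fun a ha =>
    mem_centralizer_iff.2 fun w hw => (B.fib.commute (hAD ha) hw).eq.symm
  refine (?_ : coreCent (W : Set G) ≤ bigN z b) ⟨o, ho, rfl⟩
  refine CfsgLib.Signalizer.Solv.le_of_fixed_le (p := 2) hAe (by rw [hA4]; norm_num)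
    (hAX.trans (coreCent_norm _)) (fun h => Nat.not_even_iff_odd.2 (coreCent_odd _) (even_iff_two_dvd.2 h))
    fun a ha ha1 v hv => ?_
  have ha2 : orderOf a = 2 := orderOf_eq_two_of ha1 (by rw [← pow_two]; exact hAe.2 a ha)
  exact B.pair_cen_le (B.fib.mem_class₁ (hAD ha) ha2) B.in₂ (B.fib.commute (hAD ha) B.mem₂)
    (B.sylow_le (B.fib.le₁ (hAD ha))) (B.sylow_le (B.fib.le₂ B.mem₂))
    (mem_centralizer_singleton_iff.1 hv.2)
    (show Commute v b from (mem_centralizer_iff.1 (coreCent_le _ hv.1) b B.mem₂).symm)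

/-- `O(C(D)) ≤ M` for abelian `D`. -/
theorem coreD_le {o : centralizer (D : Set G)}
    (ho : o ∈ oddCore (centralizer (D : Set G))) : (o : G) ∈ bigN z b := by
  haveI : Fact (Nat.Prime 2) := ⟨Nat.prime_two⟩
  obtain ⟨A, hAW, hAe, hA4⟩ := B.four₂
  have hAX : A ≤ centralizer (D : Set G) := fun a ha =>
    mem_centralizer_iff.2 fun d hd => (B.fib.commute hd (hAW ha)).eq
  refine (?_ : coreCent (D : Set G) ≤ bigN z b) ⟨o, ho, rfl⟩
  refine CfsgLib.Signalizer.Solv.le_of_fixed_le (p := 2) hAe (by rw [hA4]; norm_num)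
    (hAX.trans (coreCent_norm _)) (fun h => Nat.not_even_iff_odd.2 (coreCent_odd _) (even_iff_two_dvd.2 h))
    fun a ha ha1 v hv => ?_
  have ha2 : orderOf a = 2 := orderOf_eq_two_of ha1 (by rw [← pow_two]; exact hAe.2 a ha)
  exact B.pair_cen_le B.in₁ (B.fib.mem_class₂ (hAW ha) ha2) (B.fib.commute B.mem₁ (hAW ha))
    (B.sylow_le (B.fib.le₁ B.mem₁)) (B.sylow_le (B.fib.le₂ (hAW ha)))
    (show Commute v z from (mem_centralizer_iff.1 (coreCent_le _ hv.1) z B.mem₁).symm)
    (mem_centralizer_singleton_iff.1 hv.2)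

theorem moveW {u g : G} (hu : u ∈ D) (hu2 : orderOf u = 2) (hg : g ∈ centralizer (W : Set G))
    (hgu : g * u * g⁻¹ ∈ bigN z b) : g ∈ bigN z b :=
  B.move (B.fib.mem_class₁ hu hu2) B.in₂ (B.fib.commute hu B.mem₂) (B.sylow_le (B.fib.le₁ hu))
    (B.sylow_le (B.fib.le₂ B.mem₂)) hgu (by
      rw [(show Commute g b from (mem_centralizer_iff.1 hg b B.mem₂).symm).eq, mul_inv_cancel_right]
      exact B.sylow_le (B.fib.le₂ B.mem₂))

theorem moveD {u g : G} (hu : u ∈ W) (hu2 : orderOf u = 2) (hg : g ∈ centralizer (D : Set G))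
    (hgu : g * u * g⁻¹ ∈ bigN z b) : g ∈ bigN z b :=
  B.move B.in₁ (B.fib.mem_class₂ hu hu2) (B.fib.commute B.mem₁ hu) (B.sylow_le (B.fib.le₁ B.mem₁))
    (B.sylow_le (B.fib.le₂ hu)) (by
      rw [(show Commute g z from (mem_centralizer_iff.1 hg z B.mem₁).symm).eq, mul_inv_cancel_right]
      exact B.sylow_le (B.fib.le₁ B.mem₁)) hgu

/-- A strongly embedded subgroup of `C(D) / O D` makes `M` contain `C(W)`. -/
theorem cenW_le_of_embedded (hB : BenderGen.{u}) (hm : Homo D 1) {L : Subgroup (Ybar D)}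
    (hL : IsStronglyEmbedded L)
    (hTL : ∀ t : centralizer (D : Set G), (t : G) ∈ (S : Subgroup G) → piX D t ∈ L) :
    centralizer (W : Set G) ≤ bigN z b := by
  haveI : Fact (Nat.Prime 2) := ⟨Nat.prime_two⟩
  have P := B.pos' hm
  obtain ⟨T, -, hTmem, hST⟩ := P.exists_sylow_equiv
  have hTL' : (T : Subgroup (Ybar D)) ≤ L := fun q hq => by
    obtain ⟨u, hu, rfl⟩ := hTmem q hq
    exact hTL u (B.fib.le₂ hu)
  have hab : ∀ p ∈ (T : Subgroup (Ybar D)), ∀ q ∈ (T : Subgroup (Ybar D)), Commute p q := by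
    intro p hp q hq
    obtain ⟨u, hu, rfl⟩ := hTmem p hp
    obtain ⟨v, hv, rfl⟩ := hTmem q hq
    exact (show Commute u v from Subtype.ext (B.fib.comm₂ _ hu _ hv).eq).map (piX D)
  have hWX : W ≤ centralizer (D : Set G) := B.fib.le₂.trans P.sylow_le_cen
  have hord : ∀ v (hv : v ∈ W), orderOf v = 2 → orderOf (piX D ⟨v, hWX hv⟩) = 2 := fun v hv hv2 =>
    orderOf_eq_two_of
      (fun h => involution_ne_one hv2 (congrArg Subtype.val (P.injective (u := ⟨v, hWX hv⟩) hv h)))
      (by rw [← map_mul, show (⟨v, hWX hv⟩ : centralizer (D : Set G)) * ⟨v, hWX hv⟩ = 1 from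
        Subtype.ext (involution_sq hv2), map_one])
  obtain ⟨y', hy', hy'2, hne⟩ := B.two b B.mem₂ B.ord₂
  have htwo : ∃ s ∈ (T : Subgroup (Ybar D)), ∃ t ∈ (T : Subgroup (Ybar D)),
      orderOf s = 2 ∧ orderOf t = 2 ∧ s ≠ t := by
    refine ⟨_, hST ⟨b, hWX B.mem₂⟩ (B.fib.le₂ B.mem₂), _, hST ⟨y', hWX hy'⟩ (B.fib.le₂ hy'),
      hord b B.mem₂ B.ord₂, hord y' hy' hy'2, fun h => hne ?_⟩
    have h1 : piX D (⟨b, hWX B.mem₂⟩ * (⟨y', hWX hy'⟩ : centralizer (D : Set G))⁻¹) = 1 := by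
      rw [map_mul, map_inv, h, mul_inv_cancel]
    have h2 : b * y'⁻¹ = 1 := congrArg Subtype.val
      (P.injective (u := ⟨b, hWX B.mem₂⟩ * (⟨y', hWX hy'⟩)⁻¹) (mul_mem B.mem₂ (inv_mem hy')) h1)
    exact (mul_inv_eq_one.1 h2).symm
  -- the fixed part of every core lies in `O(C(D))`
  have hfix : ∀ v ∈ W, orderOf v = 2 → ∀ o ∈ coreCent ({v} : Set G),
      o ∈ centralizer (D : Set G) → o ∈ coreCent (D : Set G) := by
    intro v hv hv2 o ho hoD
    set X := centralizer (D : Set G) with hX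
    set vX : X := ⟨v, hWX hv⟩ with hvX
    set j := piX D vX
    set Q₀ := (coreCent ({v} : Set G)).subgroupOf X with hQ₀
    have hQodd : Odd (Nat.card Q₀) := (coreCent_odd ({v} : Set G)).of_dvd_nat (Subgroup.card_comap_dvd_of_injective _ _ X.subtype_injective)
    have hbot := coreCent_eq_bot hB hL P.oddCore_eq_bot T hTL' hab htwo (hST vX (B.fib.le₂ hv))
      (hord v hv hv2)
    have hmem : piX D ⟨o, hoD⟩ ∈ coreCent ({j} : Set (Ybar D)) := by
      have hle : Q₀.map (piX D) ≤ centralizer ({j} : Set (Ybar D)) := by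
        rintro _ ⟨q, hq, rfl⟩
        refine mem_centralizer_singleton_iff.2 ((show Commute q vX from Subtype.ext ?_).map (piX D)).eq
        exact mem_centralizer_singleton_iff.1 (coreCent_le _ (mem_subgroupOf.1 hq))
      refine CfsgLib.FTDep.mem_coreCent_of (Q := Q₀.map (piX D)) (hle (mem_map_of_mem _ ?_)) hle ?_
        (hQodd.of_dvd_nat (Subgroup.card_map_dvd _ _)) (mem_map_of_mem _ ?_)
      · exact mem_subgroupOf.2 ho
      · rw [le_normalizer_iff]
        intro c hc p hp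
        obtain ⟨k, rfl⟩ := piX_surjective D c
        obtain ⟨q, hq, rfl⟩ := hp
        obtain ⟨w, hw, hwe⟩ := P.lift_conj (u := vX) (u' := vX) (k := k) hv hv
          (by rw [hvX, Subgroup.orderOf_mk, hv2])
          (by rw [show piX D k * j = j * piX D k from mem_centralizer_singleton_iff.1 hc, mul_inv_cancel_right])
        have hwk : ((w * k : X) : G) ∈ centralizer ({v} : Set G) := by
          refine mem_centralizer_singleton_iff.2 ?_
          exact congrArg Subtype.val (mul_inv_eq_iff_eq_mul.1 hwe :)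
        have hq' : w * k * q * (w * k)⁻¹ ∈ Q₀ := mem_subgroupOf.2
          ((mem_normalizer_iff.1 (coreCent_norm _ hwk) _).1 (mem_subgroupOf.1 hq))
        have := mem_map_of_mem (piX D) hq'
        simpa [piX_of_core hw] using this
      · exact mem_subgroupOf.2 ho
    rw [hbot, mem_bot] at hmem
    exact ⟨⟨o, hoD⟩, P.mem_core_of_odd hmem (by
      rw [Subgroup.orderOf_mk]
      exact (coreCent_odd ({v} : Set G)).of_dvd_nat (Subgroup.orderOf_dvd_natCard _ ho)), rfl⟩
  -- the four-group is the whole first factor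
  obtain ⟨z', hz', hz'2, hne', hc⟩ := B.fib.good.exists_partner B.fib.pgroup₁ B.mem₁ B.ord₁
  have hDeq : closure ({z, z'} : Set G) = D := by
    refine Subgroup.eq_of_le_of_card_ge ((closure_le _).2 (by
      rintro v (rfl | rfl)
      exacts [B.mem₁, hz'])) ?_
    rw [card_closure_pair B.ord₁ hz'2 hc hne'.symm]
    obtain ⟨e⟩ := hm
    rw [Nat.card_congr e.toEquiv, Nat.card_congr Multiplicative.toAdd, Nat.card_prod, Nat.card_zmod]
    norm_num
  have hfull : ∀ v ∈ W, orderOf v = 2 → Pc v z = coreCent ({v} : Set G) := by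
    intro v hv hv2
    have hp := B.fib.pc_four B.mem₁ B.ord₁ hz' hz'2 hc (z := z) (b := v) (subset_closure (Or.inl rfl))
      (involution_ne_one B.ord₁) (fun a ha => B.fib.commute (hDeq.le ha) hv)
    rw [hDeq] at hp
    rw [← hp]
    have hn : D ≤ normalizer (coreCent ({v} : Set G) : Set G) := norm_coreCent fun a ha => B.fib.commute ha hv
    refine le_antisymm (sup_le (CfsgLib.Core.commutator_le_of_normalizes hn) inf_le_left) fun o ho => ?_
    obtain ⟨p, hp', q, hq, rfl⟩ := CfsgLib.Core.exists_mul_centralizing hn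
      (coprime_two_group B.fib.pgroup₁ (coreCent_odd _)) (Or.inl (Group.isSolvable_of_comm fun a c =>
        Subtype.ext (hm.comm a.2 c.2).eq)) ho
    exact mul_mem (mem_sup_left hp') (mem_sup_right ⟨hq.1, hfix v hv hv2 q hq.1 hq.2⟩)
  obtain ⟨W₀, -, hW₀, hgen⟩ := B.fib.exists_W B.ih B.mem₁ B.ord₁ hz' hz'2 hne'.symm hc B.mem₂ B.ord₂
    hy' hy'2 hne.symm
  set A := closure ({b, y'} : Set G) with hA
  have hAW : A ≤ W := (closure_le _).2 (by
    rintro v (rfl | rfl)
    exacts [B.mem₂, hy'])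
  have hord' : ∀ v ∈ A, v ≠ 1 → orderOf v = 2 := fun v hv hv1 => orderOf_eq_two_of hv1 (by
    rw [← pow_two]
    exact (isElementaryAbelian_pair (involution_sq B.ord₂) (involution_sq hy'2)
      (B.fib.comm₂ b B.mem₂ y' hy')).2 v hv)
  set H := ⨆ v : {v : G // v ∈ A ∧ v ≠ 1}, coreCent ({(v : G)} : Set G) with hH
  have heq : Wn z b = H := by
    refine le_antisymm ?_ (iSup_le fun v => ?_)
    · rw [hW₀ z (subset_closure (Or.inl rfl)) (involution_ne_one B.ord₁) b (subset_closure (Or.inl rfl))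
        (involution_ne_one B.ord₂)]
      refine hgen H fun v hv hv1 => ?_
      rw [hfull v (hAW hv) (hord' v hv hv1)]
      exact le_iSup (fun v : {v : G // v ∈ A ∧ v ≠ 1} => coreCent ({(v : G)} : Set G)) ⟨v, hv, hv1⟩
    · rw [← hfull v (hAW v.2.1) (hord' v v.2.1 v.2.2),
        ← B.wn_right (hAW v.2.1) (hord' v v.2.1 v.2.2)]
      exact le_sup_of_le_left le_sup_left
  intro g hg
  refine map_eq_iff.1 ?_
  rw [heq, hH, Subgroup.map_iSup]
  refine iSup_congr fun v => ?_
  rw [map_coreCent, show g * (v : G) * g⁻¹ = v from mul_inv_eq_iff_eq_mul.2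
    (mem_centralizer_iff.1 hg v (hAW v.2.1)).symm]

/-- `M` contains `C(W)`, or `D` is a four-group and `M` contains `C(D)`. -/
theorem cen_le (hB : BenderGen.{u}) :
    centralizer (W : Set G) ≤ bigN z b ∨ (Homo D 1 ∧ centralizer (D : Set G) ≤ bigN z b) := by
  haveI : Fact (Nat.Prime 2) := ⟨Nat.prime_two⟩
  have P := B.pos
  rcases P.dichotomy (M := bigN z b) B.sylow_le ⟨z, B.mem₁, B.ord₁⟩ (fun o ho => B.coreW_le ho)
    (fun u hu hu2 g hg => B.moveW hu hu2 hg) with h | ⟨hne, hSE⟩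
  · exact Or.inl h
  set L := ((bigN z b).subgroupOf (centralizer (W : Set G))).map (piX W)
  obtain ⟨T, ⟨eU⟩, hTmem, hST⟩ := P.exists_sylow_equiv
  have hTL : (T : Subgroup (Ybar W)) ≤ L := fun q hq => by
    obtain ⟨u, hu, rfl⟩ := hTmem q hq
    exact mem_map_of_mem _ (mem_subgroupOf.2 (B.sylow_le (B.fib.le₁ hu)))
  rcases B.fib.good with ⟨m, hm1, hm⟩ | ⟨n, hn, ⟨e⟩⟩
  · by_cases hm2 : 2 ≤ m
    · exfalso
      obtain ⟨eD⟩ := hm
      obtain ⟨hTn, -, -⟩ := Cfsg.Agent.S0949.result T m hm2 (eU.symm.trans eD) (fun N hN ho =>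
        le_bot_iff.1 (P.oddCore_eq_bot ▸ CfsgLib.ZStar.le_oddCore hN ho))
      haveI := hTn
      set j := piX W ⟨z, B.pos.sylow_le_cen (B.fib.le₁ B.mem₁)⟩
      have hjT : j ∈ (T : Subgroup (Ybar W)) := hST _ (B.fib.le₁ B.mem₁)
      have hj2 : orderOf j = 2 := by
        have : orderOf (eU ⟨z, B.mem₁⟩) = 2 := by rw [eU.orderOf_eq, Subgroup.orderOf_mk, B.ord₁]
        exact orderOf_eq_two_of
          (fun h => involution_ne_one B.ord₁ (congrArg Subtype.val (P.injective B.mem₁ h)))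
          (by rw [← map_mul, show (⟨z, B.pos.sylow_le_cen (B.fib.le₁ B.mem₁)⟩ : centralizer (W : Set G)) *
            ⟨z, B.pos.sylow_le_cen (B.fib.le₁ B.mem₁)⟩ = 1 from Subtype.ext (involution_sq B.ord₁), map_one])
      refine hne (eq_top_iff.2 fun q _ => ?_)
      exact ((CfsgLib.Signalizer.stronglyEmbedded_iff_conj L).1 hSE).2.2 j (hTL hjT) hj2 q
        (hTL (hTn.conj_mem j hjT q))
    obtain rfl : m = 1 := by omega
    have P' := B.pos' hm
    rcases P'.dichotomy (M := bigN z b) B.sylow_le ⟨b, B.mem₂, B.ord₂⟩ (fun o ho => B.coreD_le ho)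
      (fun u hu hu2 g hg => B.moveD hu hu2 hg) with h | ⟨-, hSE'⟩
    · exact Or.inr ⟨hm, h⟩
    · exact Or.inl (B.cenW_le_of_embedded hB hm hSE' fun t ht =>
        mem_map_of_mem _ (mem_subgroupOf.2 (B.sylow_le ht)))
  · exfalso
    refine hne (eq_top_of_centralizers_le P.oddCore_eq_bot T hn (eU.symm.trans e) L
      (t := piX W ⟨z, B.pos.sylow_le_cen (B.fib.le₁ B.mem₁)⟩) ?_ (hTL (hST _ (B.fib.le₁ B.mem₁)))
      fun j hj hj2 => CfsgLib.Signalizer.stronglyEmbedded_centralizer hSE hj hj2)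
    exact orderOf_eq_two_of
      (fun h => involution_ne_one B.ord₁ (congrArg Subtype.val (P.injective B.mem₁ h)))
      (by rw [← map_mul, show (⟨z, B.pos.sylow_le_cen (B.fib.le₁ B.mem₁)⟩ : centralizer (W : Set G)) *
        ⟨z, B.pos.sylow_le_cen (B.fib.le₁ B.mem₁)⟩ = 1 from Subtype.ext (involution_sq B.ord₁), map_one])

/-- One of the two classes lies in `M`. -/
theorem class_le (hB : BenderGen.{u}) :
    (∀ x ∈ involClass D, x ∈ bigN z b) ∨ ∀ y ∈ involClass W, y ∈ bigN z b := by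
  have hzM := B.sylow_le (B.fib.le₁ B.mem₁)
  have hbM := B.sylow_le (B.fib.le₂ B.mem₂)
  rcases B.cen_le hB with hX | ⟨hm, hX⟩
  · left
    have hcen : ∀ v ∈ involClass D, Commute v b → v ∈ bigN z b := by
      intro v hv hvb
      obtain ⟨u, hu, hue⟩ := exists_conj_centralizing B.fib.pgroup₂ B.fib.comm₂
        (fun w hw => mem_centralizer_singleton_iff.2 (B.fib.comm₂ w hw b B.mem₂).eq) hv.1 hvb
        (fun d hd => B.fib.local_comm B.ih B.mem₂ B.ord₂ hv hvb hd)
      have huM := B.core_le₂ B.in₁ B.in₂ (B.fib.commute B.mem₁ B.mem₂) hzM hbM hu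
      simpa [mul_assoc] using mul_mem (mul_mem (inv_mem huM) (hX hue)) huM
    intro x hx
    obtain ⟨q, -, -, ⟨hx', hc, hcx⟩, -⟩ := B.fib.pair_twice_odd hx B.in₂
    refine B.mixed_le hx' B.in₂ hc (hcen _ hx' hc) hbM ?_
    rw [mul_assoc, involution_sq B.ord₂, mul_one]
    exact hcx.symm
  · right
    have hcen : ∀ v ∈ involClass W, Commute z v → v ∈ bigN z b := by
      intro v hv hzv
      obtain ⟨u, hu, hue⟩ := exists_conj_centralizing B.fib.pgroup₁ (fun a ha d hd => hm.comm ha hd)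
        (fun d hd => mem_centralizer_singleton_iff.2 (B.cen₁ d hd).eq) hv.1 hzv.symm (fun d hd => by
          by_cases hd1 : d = 1
          · rw [hd1, mul_one, mul_inv_cancel, inv_one, mul_one]; exact one_mem _
          have hg : Commute v (z * 1) := by rw [mul_one]; exact hzv.symm
          have h := inv_mem (B.fib.sep_homo le_rfl hm B.mem₁ B.ord₁ (one_mem W) hd
            (orderOf_eq_two_of hd1 (hm.sq_one hd)) hg)
          rwa [mul_one, show (d * v * d⁻¹ * v⁻¹)⁻¹ = v * d * v⁻¹ * d⁻¹ by group] at h)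
      have huM := B.core_le₁ B.in₁ B.in₂ (B.fib.commute B.mem₁ B.mem₂) hzM hbM hu
      simpa [mul_assoc] using mul_mem (mul_mem (inv_mem huM) (hX hue)) huM
    intro y hy
    obtain ⟨q, -, -, -, hw, hc, hcy⟩ := B.fib.pair_twice_odd B.in₁ hy
    refine B.mixed_le B.in₁ hw hc hzM (hcen _ hw hc) ?_
    rw [← mul_assoc, involution_sq B.ord₁, one_mul]
    exact hcy.symm

end Base

end CfsgLib.TwoFusion.AbelianFactor
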