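import Cfsg.Agent.Lib.TwoFusion.AbelianFactor.Isolated

/-!
Owner: helper2.  Quotients; what induction gives in the centraliser of an involution of the abelian factor.
-/

set_option autoImplicit false
set_option linter.style.haveILetI false
set_option linter.unusedSectionVars false

namespace CfsgLib.TwoFusion.AbelianFactor

open Subgroup Cfsg
open CfsgLib.Signalizer (involution_sq involution_inv involution_ne_one orderOf_eq_two_of orderOf_conj)
open CfsgLib.TwoFusion.DihedralProduct (involClass involClass_conj exists_conj_into oddCore_quotient_central)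
open CfsgLib.FTDep (coreCent coreCent_le coreCent_norm coreCent_odd)

universe u

/-- The theorem for all groups of smaller order. -/
def Below (n : ℕ) : Prop :=
  ∀ (H : Type u) [Group H] [Finite H], Nat.card H < n →
    ∀ (S : Sylow 2 H) (D W : Subgroup H), Fib S D W → oddCore H = ⊥ →
      ∀ x ∈ involClass D, ∀ w ∈ W, Commute x w

variable {G : Type u} [Group G] [Finite G]

namespace Fib

variable {S : Sylow 2 G} {D W : Subgroup G} (F : Fib S D W)

include F

/-- The data inside a subgroup containing the Sylow subgroup. -/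
theorem restrict {C : Subgroup G} (hC : (S : Subgroup G) ≤ C) :
    Fib (S.subtype hC) (D.subgroupOf C) (W.subgroupOf C) := by
  haveI : Fact (Nat.Prime 2) := ⟨Nat.prime_two⟩
  have hmem : ∀ c : C, c ∈ (S.subtype hC : Subgroup C) ↔ (c : G) ∈ (S : Subgroup G) := fun c => by
    rw [Sylow.coe_subtype, mem_subgroupOf]
  refine ⟨⟨fun c hc => (hmem c).2 (F.le₁ (mem_subgroupOf.1 hc)),
    fun c hc => (hmem c).2 (F.le₂ (mem_subgroupOf.1 hc)),
    fun a ha b hb => Subtype.ext (F.commute (mem_subgroupOf.1 ha) (mem_subgroupOf.1 hb)).eq, ?_, ?_⟩,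
    ⟨fun c hc => (hmem c).2 (F.le₁ (mem_subgroupOf.1 hc)), fun c hc g hg =>
      mem_subgroupOf.2 (F.closed₁.2 _ (mem_subgroupOf.1 hc) g ((hmem _).1 hg))⟩,
    ⟨fun c hc => (hmem c).2 (F.le₂ (mem_subgroupOf.1 hc)), fun c hc g hg =>
      mem_subgroupOf.2 (F.closed₂.2 _ (mem_subgroupOf.1 hc) g ((hmem _).1 hg))⟩,
    fun a ha b hb => Subtype.ext (F.comm₂ _ (mem_subgroupOf.1 ha) _ (mem_subgroupOf.1 hb)).eq,
    F.good.of_equiv (subgroupOfEquivOfLe (F.le₁.trans hC)).symm⟩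
  · exact (eq_bot_iff_forall _).2 fun c hc =>
      Subtype.ext (F.eq_one (mem_subgroupOf.1 hc.1) (mem_subgroupOf.1 hc.2))
  · refine le_antisymm (sup_le (fun c hc => (hmem c).2 (F.le₁ (mem_subgroupOf.1 hc)))
      fun c hc => (hmem c).2 (F.le₂ (mem_subgroupOf.1 hc))) fun c hc => ?_
    obtain ⟨u, hu, v, hv, e⟩ := F.exists_mul ((hmem c).1 hc)
    rw [show c = ⟨u, hC (F.le₁ hu)⟩ * ⟨v, hC (F.le₂ hv)⟩ from Subtype.ext e]
    exact mul_mem (mem_sup_left (mem_subgroupOf.2 hu)) (mem_sup_right (mem_subgroupOf.2 hv))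

theorem map_injOn {K : Subgroup G} [K.Normal] (hKW : ∀ x ∈ (S : Subgroup G), x ∈ K → x ∈ W) {a : G}
    (ha : a ∈ D) (h : QuotientGroup.mk' K a = 1) : a = 1 :=
  F.eq_one ha (hKW a (F.le₁ ha) ((QuotientGroup.eq_one_iff a).1 h))

/-- Quotient by a normal subgroup meeting `S` inside `W`. -/
theorem map {K : Subgroup G} [K.Normal] (hKW : ∀ x ∈ (S : Subgroup G), x ∈ K → x ∈ W) :
    Fib (S.mapSurjective (QuotientGroup.mk'_surjective K)) (D.map (QuotientGroup.mk' K))
      (W.map (QuotientGroup.mk' K)) := by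
  haveI : Fact (Nat.Prime 2) := ⟨Nat.prime_two⟩
  set π := QuotientGroup.mk' K with hπ
  have hinj := fun a ha => F.map_injOn hKW (a := a) ha
  have hclosed : ∀ E : Subgroup G, IsStronglyClosed E (S : Subgroup G) → ∀ x ∈ E, ∀ g : G,
      π (g * x * g⁻¹) ∈ (S : Subgroup G).map π → π (g * x * g⁻¹) ∈ E.map π := by
    intro E hE x hx g hg
    set v := g * x * g⁻¹ with hv
    obtain ⟨t, ht, e⟩ := hg
    have hvM : v ∈ (S : Subgroup G) ⊔ K := by
      have h1 : t⁻¹ * v ∈ K := (QuotientGroup.eq_one_iff _).1 (show π (t⁻¹ * v) = 1 by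
        rw [map_mul, map_inv, e, inv_mul_cancel])
      have h2 := mul_mem (mem_sup_left (T := K) ht) (mem_sup_right (S := (S : Subgroup G)) h1)
      rwa [mul_inv_cancel_left] at h2
    have hvP : IsPGroup 2 (zpowers v) := by
      obtain ⟨k, hk⟩ := IsPGroup.iff_orderOf.1 S.2 ⟨x, hE.1 hx⟩
      exact IsPGroup.of_card (n := k) (by rw [Nat.card_zpowers, hv, orderOf_conj, ← hk, Subgroup.orderOf_mk])
    obtain ⟨k, hk, hkS⟩ := exists_conj_into S le_sup_left (zpowers_le.2 hvM) hvP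
    obtain ⟨s, hs, o, ho, rfl⟩ := (CfsgLib.Core.mem_sup_iff_mul
      (CfsgLib.Core.le_normalizer_of_normal _ _)).1 hk
    have h3 : o * g * x * (o * g)⁻¹ ∈ (S : Subgroup G) := by
      have := mul_mem (mul_mem (inv_mem hs) (hkS v (mem_zpowers v))) hs
      rwa [show s⁻¹ * (s * o * v * (s * o)⁻¹) * s = o * g * x * (o * g)⁻¹ by rw [hv]; group] at this
    refine ⟨_, hE.2 x hx (o * g) h3, ?_⟩
    have ho1 : π o = 1 := (QuotientGroup.eq_one_iff o).2 ho
    rw [hv]
    simp only [map_mul, map_inv, ho1, one_mul]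
  refine ⟨⟨map_mono F.le₁, map_mono F.le₂, ?_, ?_, ?_⟩, ⟨map_mono F.le₁, ?_⟩, ⟨map_mono F.le₂, ?_⟩, ?_, ?_⟩
  · rintro _ ⟨a, ha, rfl⟩ _ ⟨b, hb, rfl⟩
    exact ((F.commute ha hb).map π).eq
  · refine (eq_bot_iff_forall _).2 ?_
    rintro _ ⟨⟨a, ha, rfl⟩, b, hb, e⟩
    have h1 : b⁻¹ * a ∈ K := (QuotientGroup.eq_one_iff _).1 (show π (b⁻¹ * a) = 1 by
      rw [map_mul, map_inv, e, inv_mul_cancel])
    have h2 := mul_mem hb (hKW _ (mul_mem (inv_mem (F.le₂ hb)) (F.le₁ ha)) h1)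
    rw [mul_inv_cancel_left] at h2
    rw [F.eq_one ha h2, map_one]
  · rw [← Subgroup.map_sup, F.prod.2.2.2.2]
    rfl
  · rintro _ ⟨x, hx, rfl⟩ q hq
    obtain ⟨g, rfl⟩ := QuotientGroup.mk'_surjective K q
    rw [← map_inv, ← map_mul, ← map_mul] at hq ⊢
    exact hclosed D F.closed₁ x hx g hq
  · rintro _ ⟨x, hx, rfl⟩ q hq
    obtain ⟨g, rfl⟩ := QuotientGroup.mk'_surjective K q
    rw [← map_inv, ← map_mul, ← map_mul] at hq ⊢
    exact hclosed W F.closed₂ x hx g hq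
  · rintro _ ⟨a, ha, rfl⟩ _ ⟨b, hb, rfl⟩
    exact (F.comm₂ a ha b hb).map π
  · refine F.good.of_equiv (MulEquiv.ofBijective (π.subgroupMap D) ⟨?_, π.subgroupMap_surjective D⟩)
    refine (injective_iff_map_eq_one _).2 fun a ha => Subtype.ext (hinj a a.2 ?_)
    exact congrArg Subtype.val ha

theorem sylow_le_centralizer {x : G} (hx : x ∈ W) :
    (S : Subgroup G) ≤ centralizer ({x} : Set G) := fun s hs =>
  mem_centralizer_singleton_iff.2 (F.central₂ hx hs).eq

/-- Induction in the centraliser of an involution of `W`. -/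
theorem local_comm (ih : Below.{u} (Nat.card G)) {b : G} (hb : b ∈ W) (hb2 : orderOf b = 2) {x : G}
    (hx : x ∈ involClass D) (hxb : Commute x b) {w : G} (hw : w ∈ W) :
    x * w * x⁻¹ * w⁻¹ ∈ coreCent ({b} : Set G) := by
  haveI : Fact (Nat.Prime 2) := ⟨Nat.prime_two⟩
  set C := centralizer ({b} : Set G) with hC
  have hSC := F.sylow_le_centralizer hb
  have Fc := F.restrict hSC
  set T := S.subtype hSC with hT
  set D₀ := D.subgroupOf C
  set W₀ := W.subgroupOf C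
  set π₁ := QuotientGroup.mk' (oddCore C) with hπ₁
  have hTO : ∀ v ∈ (T : Subgroup C), v ∈ oddCore C → v ∈ W₀ := fun v h1 h2 => by
    have : v ∈ (T : Subgroup C) ⊓ oddCore C := ⟨h1, h2⟩
    rw [inf_eq_bot_of_coprime ((IsPGroup.iff_card.1 T.2).choose_spec ▸
      ((CfsgLib.Core.coprime_card_pPrimeCore 2 C).symm.pow_left _)), mem_bot] at this
    rw [this]; exact one_mem _
  have hinj₁ : ∀ v ∈ (T : Subgroup C), π₁ v = 1 → v = 1 := fun v h1 h2 => by
    have : v ∈ (T : Subgroup C) ⊓ oddCore C := ⟨h1, (QuotientGroup.eq_one_iff v).1 h2⟩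
    rwa [inf_eq_bot_of_coprime ((IsPGroup.iff_card.1 T.2).choose_spec ▸
      ((CfsgLib.Core.coprime_card_pPrimeCore 2 C).symm.pow_left _)), mem_bot] at this
  have F₁ := Fc.map hTO
  set T₁ := T.mapSurjective (QuotientGroup.mk'_surjective (oddCore C))
  have hbC : b ∈ C := mem_centralizer_singleton_iff.2 rfl
  have hbW : (⟨b, hbC⟩ : C) ∈ W₀ := mem_subgroupOf.2 hb
  set b₁ := π₁ ⟨b, hbC⟩ with hb₁
  have hbT : (⟨b, hbC⟩ : C) ∈ (T : Subgroup C) := Fc.le₂ hbW
  have hb₁2 : orderOf b₁ = 2 := orderOf_eq_two_of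
    (fun h => involution_ne_one hb2 (congrArg Subtype.val (hinj₁ _ hbT h)))
    (by rw [hb₁, ← map_mul, show (⟨b, hbC⟩ : C) * ⟨b, hbC⟩ = 1 from Subtype.ext (involution_sq hb2), map_one])
  set Z := zpowers b₁ with hZ
  have hZc : Z ≤ center (C ⧸ oddCore C) := zpowers_le.2 (mem_center_iff.2 fun q => by
    obtain ⟨v, rfl⟩ := QuotientGroup.mk'_surjective _ q
    rw [hb₁, ← map_mul, ← map_mul]
    exact congrArg π₁ (Subtype.ext (mem_centralizer_singleton_iff.1 v.2)))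
  haveI : Z.Normal := ⟨fun v hv q => by rwa [mem_center_iff.1 (hZc hv) q, mul_inv_cancel_right]⟩
  have hZW : Z ≤ W₀.map π₁ := zpowers_le.2 (mem_map_of_mem π₁ hbW)
  have hZ2 : IsPGroup 2 Z := IsPGroup.of_card (n := 1) (by rw [hZ, Nat.card_zpowers, hb₁2, pow_one])
  have F₂ := F₁.map (K := Z) fun v _ hv => hZW hv
  set π₂ := QuotientGroup.mk' Z with hπ₂
  have hO : oddCore ((C ⧸ oddCore C) ⧸ Z) = ⊥ :=
    oddCore_quotient_central Z hZc hZ2 (CfsgLib.Core.pPrimeCore_quotient_pPrimeCore 2 C)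
  have hlt : Nat.card ((C ⧸ oddCore C) ⧸ Z) < Nat.card G := by
    have h1 := Z.card_eq_card_quotient_mul_card_subgroup
    have h2 := (oddCore C).card_eq_card_quotient_mul_card_subgroup
    rw [hZ, Nat.card_zpowers, hb₁2, ← hZ] at h1
    have h3 : Nat.card (C ⧸ oddCore C) ≤ Nat.card C := by
      rw [h2]; exact Nat.le_mul_of_pos_right _ Nat.card_pos
    have h4 : Nat.card C ≤ Nat.card G := Nat.le_of_dvd Nat.card_pos (card_subgroup_dvd_card C)
    have h5 : 0 < Nat.card ((C ⧸ oddCore C) ⧸ Z) := Nat.card_pos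
    omega
  -- the involution in the quotients
  have hxC : x ∈ C := mem_centralizer_singleton_iff.2 hxb.eq
  set xc : C := ⟨x, hxC⟩
  set wc : C := ⟨w, hSC (F.le₂ hw)⟩
  obtain ⟨k, hk⟩ := CfsgLib.Techniques.exists_conj_mem_sylow T (H := zpowers xc)
    (IsPGroup.of_card (n := 1) (by rw [Nat.card_zpowers, Subgroup.orderOf_mk, hx.1, pow_one]))
  have hkD : k * xc * k⁻¹ ∈ D₀ := by
    refine mem_subgroupOf.2 (F.conj_left hx ?_)
    have := hk xc (mem_zpowers _)
    rw [hT, Sylow.coe_subtype, mem_subgroupOf] at this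
    exact this
  have hcl₁ : π₁ xc ∈ involClass (D₀.map π₁) := by
    refine ⟨orderOf_eq_two_of (fun h => ?_) (by
      rw [← map_mul, show xc * xc = 1 from Subtype.ext (involution_sq hx.1), map_one]), π₁ k, ?_⟩
    · have h' : π₁ (k * xc * k⁻¹) = 1 := by rw [map_mul, map_mul, map_inv, h, mul_one, mul_inv_cancel]
      have := congrArg Subtype.val (hinj₁ _ (Fc.le₁ hkD) h')
      exact involution_ne_one hx.1 (conj_eq_one_iff.1 this)
    · rw [← map_inv, ← map_mul, ← map_mul]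
      exact mem_map_of_mem π₁ hkD
  have hcl₂ : π₂ (π₁ xc) ∈ involClass ((D₀.map π₁).map π₂) := by
    refine ⟨orderOf_eq_two_of (fun h => ?_) (by
      rw [← map_mul, involution_sq hcl₁.1, map_one]), π₂ (π₁ k), ?_⟩
    · have h1 : π₁ (k * xc * k⁻¹) ∈ Z := (QuotientGroup.eq_one_iff _).1 (show π₂ (π₁ _) = 1 by
        rw [map_mul, map_mul, map_mul, map_mul, h, mul_one, ← map_mul, ← map_mul, mul_inv_cancel, map_one,
          map_one])
      have h2 := F₁.eq_one (mem_map_of_mem π₁ hkD) (hZW h1)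
      rw [map_mul, map_mul, map_inv] at h2
      exact involution_ne_one hcl₁.1 (conj_eq_one_iff.1 h2)
    · rw [← map_inv, ← map_mul, ← map_mul, ← map_inv, ← map_mul, ← map_mul]
      exact mem_map_of_mem π₂ (mem_map_of_mem π₁ hkD)
  have hc : Commute (π₂ (π₁ xc)) (π₂ (π₁ wc)) := ih _ hlt _ _ _ F₂ hO _ hcl₂ _
    (mem_map_of_mem π₂ (mem_map_of_mem π₁ (mem_subgroupOf.2 hw)))
  -- the preimage is a 2-group
  have hP : IsPGroup 2 ((zpowers (π₂ (π₁ xc)) ⊔ zpowers (π₂ (π₁ wc))).comap π₂) := by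
    refine IsPGroup.comap_of_ker_isPGroup ?_ π₂ (by rw [hπ₂, QuotientGroup.ker_mk']; exact hZ2)
    refine IsPGroup.to_sup_of_normal_right' ?_ ?_ ?_
    · exact IsPGroup.of_card (n := 1) (by rw [Nat.card_zpowers, hcl₂.1, pow_one])
    · obtain ⟨j, hj⟩ := IsPGroup.iff_orderOf.1 T.2 ⟨wc, Fc.le₂ (mem_subgroupOf.2 hw)⟩
      rw [Subgroup.orderOf_mk] at hj
      obtain ⟨i, -, hi⟩ := (Nat.dvd_prime_pow Nat.prime_two).1
        (hj ▸ (orderOf_map_dvd π₂ (π₁ wc)).trans (orderOf_map_dvd π₁ wc))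
      exact IsPGroup.of_card (n := i) (by rw [Nat.card_zpowers, hi])
    · refine zpowers_le.2 (centralizer_le_normalizer _ (mem_centralizer_iff.2 ?_))
      intro v hv
      obtain ⟨i, rfl⟩ := mem_zpowers_iff.1 hv
      exact (hc.symm.zpow_left i).eq
  obtain ⟨m, hm⟩ := F₁.exists_conj hP
  have hmx := F₁.conj_left hcl₁ (hm (π₁ xc) (mem_comap.2 (mem_sup_left (mem_zpowers _))))
  have hmw := F₁.closed₂.2 (π₁ wc) (mem_map_of_mem π₁ (mem_subgroupOf.2 hw)) m
    (hm (π₁ wc) (mem_comap.2 (mem_sup_right (mem_zpowers _))))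
  have hcc : Commute (π₁ xc) (π₁ wc) := (MulAut.conj m).injective (by
    rw [map_mul, map_mul]; exact (F₁.commute hmx hmw).eq)
  refine ⟨xc * wc * xc⁻¹ * wc⁻¹, (QuotientGroup.eq_one_iff _).1 (show π₁ _ = 1 by
    rw [map_mul, map_mul, map_mul, map_inv, map_inv, hcc.eq, mul_inv_cancel_right, mul_inv_cancel]), rfl⟩

end Fib

end CfsgLib.TwoFusion.AbelianFactor
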