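import Cfsg.Agent.Lib.TwoFusion.AbelianFactor.Quot

/-!
Owner: helper2.  Four-groups in the two factors are core-separated.
-/

set_option autoImplicit false
set_option linter.style.haveILetI false
set_option linter.unusedSectionVars false

namespace CfsgLib.TwoFusion.AbelianFactor

open Subgroup Cfsg
open CfsgLib.Signalizer (involution_sq involution_inv involution_ne_one orderOf_eq_two_of orderOf_conj)
open CfsgLib.TwoFusion.DihedralProduct (involClass involClass_conj le_closure_odd)
open CfsgLib.FTDep (coreCent coreCent_le coreCent_norm coreCent_odd)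
open scoped commutatorElement

universe u

variable {G : Type u} [Group G] [Finite G]

/-- A subgroup centralising `A` modulo the core of `C(a)` gives the commutator bound. -/
theorem commutator_bound {a : G} {E : Subgroup (centralizer ({a} : Set G))} {A : Subgroup G}
    (hA : A ≤ centralizer ({a} : Set G))
    (h : ∀ e ∈ E, ∀ d ∈ A.subgroupOf (centralizer ({a} : Set G)),
      Commute (QuotientGroup.mk' (oddCore (centralizer ({a} : Set G))) e)
        (QuotientGroup.mk' (oddCore (centralizer ({a} : Set G))) d)) :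
    ⁅E.map (centralizer ({a} : Set G)).subtype, A⁆ ≤ centralizerPPrimeCore 2 a := by
  rw [commutator_le]
  rintro _ ⟨e, he, rfl⟩ d hd
  refine ⟨⁅e, (⟨d, hA hd⟩ : centralizer ({a} : Set G))⁆, (QuotientGroup.eq_one_iff _).1 ?_, rfl⟩
  show QuotientGroup.mk' _ ⁅e, (⟨d, hA hd⟩ : centralizer ({a} : Set G))⁆ = 1
  rw [map_commutatorElement, commutatorElement_eq_one_iff_mul_comm]
  exact (h e he _ (mem_subgroupOf.2 hd)).eq

namespace Fib

variable {S : Sylow 2 G} {D W : Subgroup G} (F : Fib S D W)

include F

theorem coreSeparated (ih : Below.{u} (Nat.card G)) {A₁ A₂ : Subgroup G} (h₁ : A₁ ≤ D) (h₂ : A₂ ≤ W)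
    (e₁ : IsElementaryAbelian 2 A₁) (e₂ : IsElementaryAbelian 2 A₂) (k₁ : Nat.card A₁ = 4)
    (k₂ : Nat.card A₂ = 4) : IsCoreSeparated A₁ A₂ := by
  have hbot : A₁ ⊓ A₂ = ⊥ := (eq_bot_iff_forall _).2 fun v hv => F.eq_one (h₁ hv.1) (h₂ hv.2)
  refine ⟨e₁, e₂, k₁, k₂, fun e => ?_, hbot, fun u hu v hv => (F.commute (h₁ hu) (h₂ hv)).eq, ?_⟩
  · rw [← e, inf_idem] at hbot
    rw [hbot, card_bot] at k₁
    exact absurd k₁ (by norm_num)
  intro a ha ha1 E hE
  have hn : A₁ ≤ normalizer (A₂ : Set G) := fun v hv =>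
    centralizer_le_normalizer _ (mem_centralizer_iff.2 fun w hw => (F.commute (h₁ hv) (h₂ hw)).eq.symm)
  obtain ⟨u, hu, v, hv, rfl⟩ := (CfsgLib.Core.mem_sup_iff_mul hn).1 ha
  have hA₁C : A₁ ≤ centralizer ({u * v} : Set G) := fun d hd => by
    have h : Commute d u := congrArg Subtype.val (e₁.1.1.comm ⟨d, hd⟩ ⟨u, hu⟩)
    exact mem_centralizer_singleton_iff.2 (h.mul_right (F.commute (h₁ hd) (h₂ hv))).eq
  have hA₂C : A₂ ≤ centralizer ({u * v} : Set G) := fun d hd => by
    have h : Commute d v := congrArg Subtype.val (e₂.1.1.comm ⟨d, hd⟩ ⟨v, hv⟩)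
    exact mem_centralizer_singleton_iff.2 ((F.commute (h₁ hu) (h₂ hd)).symm.mul_right h).eq
  set π := QuotientGroup.mk' (oddCore (centralizer ({u * v} : Set G))) with hπ
  by_cases hu1 : u = 1
  · -- `a` lies in the second four-group
    have hv1 : v ≠ 1 := fun h => ha1 (by rw [hu1, h, one_mul])
    have hv2 : orderOf v = 2 := orderOf_eq_two_of hv1 (by rw [← pow_two]; exact e₂.2 v hv)
    have huv : u * v = v := by rw [hu1, one_mul]
    set X : Set (centralizer ({u * v} : Set G) ⧸ oddCore (centralizer ({u * v} : Set G))) :=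
      {q | ∃ x : centralizer ({u * v} : Set G), (x : G) ∈ involClass D ∧ q = π x} with hX
    set N := closure X with hN
    haveI hNn : N.Normal := ⟨fun q hq g => by
      have hle : N.map (MulAut.conj g).toMonoidHom ≤ N := by
        rw [hN, MonoidHom.map_closure]
        refine closure_mono ?_
        rintro _ ⟨_, ⟨x, hx, rfl⟩, rfl⟩
        obtain ⟨k, rfl⟩ := QuotientGroup.mk'_surjective _ g
        exact ⟨k * x * k⁻¹, involClass_conj hx _, by simp [hπ]⟩
      exact hle (mem_map_of_mem _ hq)⟩
    rcases CfsgLib.Components.component_le_or_commutes hE.2.1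
      (Subgroup.Normal.isSubnormal hNn) with hle | hcomm
    · right
      refine commutator_bound hA₂C fun e he d hd => ?_
      have hNle : N ≤ centralizer ({π d} : Set _) := by
        refine (closure_le _).2 ?_
        rintro _ ⟨x, hx, rfl⟩
        refine mem_centralizer_singleton_iff.2 ?_
        have hxb : Commute (x : G) v := by
          have h0 : Commute (x : G) (u * v) := mem_centralizer_singleton_iff.1 x.2
          simpa only [hu1, one_mul] using h0
        have h := F.local_comm ih (h₂ hv) hv2 hx hxb (h₂ (mem_subgroupOf.1 hd))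
        have h' : (x : centralizer ({u * v} : Set G)) * d * x⁻¹ * d⁻¹ ∈ oddCore _ := by
          have hset : coreCent ({v} : Set G) = coreCent ({u * v} : Set G) := by rw [hu1, one_mul]
          obtain ⟨z, hz, hze⟩ := hset.le h
          exact (congrArg (· ∈ oddCore _) (Subtype.ext (by simpa using hze) : z = x * d * x⁻¹ * d⁻¹)).mp hz
        have h3 : π (x * d * x⁻¹ * d⁻¹) = 1 := (QuotientGroup.eq_one_iff _).2 h'
        rw [map_mul, map_mul, map_mul, map_inv, map_inv, mul_inv_eq_one, mul_inv_eq_iff_eq_mul] at h3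
        exact h3
      exact mem_centralizer_singleton_iff.1 (hNle (hle (mem_map_of_mem π he)))
    · left
      refine commutator_bound hA₁C fun e he d hd => ?_
      have hdN : π d ∈ N := by
        by_cases hd1 : (d : G) = 1
        · rw [show d = 1 from Subtype.ext hd1, map_one]; exact one_mem _
        · exact subset_closure ⟨d, F.mem_class₁ (h₁ (mem_subgroupOf.1 hd)) (orderOf_eq_two_of hd1
            (by rw [← pow_two]; exact e₁.2 _ (mem_subgroupOf.1 hd))), rfl⟩
      exact commutatorElement_eq_one_iff_mul_comm.1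
        (mem_bot.1 (hcomm ▸ commutator_mem_commutator (mem_map_of_mem π he) hdN))
  · -- the first part is an involution
    left
    have huI := F.mem_class₁ (h₁ hu) (orderOf_eq_two_of hu1 (by rw [← pow_two]; exact e₁.2 u hu))
    have hvI : v = 1 ∨ v ∈ involClass W ∧ Commute u v := or_iff_not_imp_left.2 fun hv1 =>
      ⟨F.mem_class₂ (h₂ hv) (orderOf_eq_two_of hv1 (by rw [← pow_two]; exact e₂.2 v hv)),
        F.commute (h₁ hu) (h₂ hv)⟩
    refine commutator_bound hA₁C fun e he d hd => ?_
    have hle : E ≤ (centralizer ({π d} : Set _)).comap π := by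
      refine (le_closure_odd (CfsgLib.Signalizer.pComponent_perfect hE)).trans ((closure_le _).2 ?_)
      intro g hg
      refine mem_centralizer_singleton_iff.2 ?_
      by_cases hd1 : (d : G) = 1
      · rw [show d = 1 from Subtype.ext hd1, map_one, mul_one, one_mul]
      · have hdI := F.mem_class₁ (h₁ (mem_subgroupOf.1 hd)) (orderOf_eq_two_of hd1
          (by rw [← pow_two]; exact e₁.2 _ (mem_subgroupOf.1 hd)))
        obtain ⟨z, hz, hze⟩ := F.odd_sep huI hvI hdI
          (congrArg Subtype.val (e₁.1.1.comm ⟨(d : G), mem_subgroupOf.1 hd⟩ ⟨u, hu⟩) : (d : G) * u = u * d)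
          (F.commute (h₁ (mem_subgroupOf.1 hd)) (h₂ hv))
          (g := (g : G)) (mem_centralizer_singleton_iff.1 g.2) (by rw [Subgroup.orderOf_coe]; exact hg.2)
        have h3 : π (g * d * g⁻¹ * d⁻¹) = 1 := (QuotientGroup.eq_one_iff _).2
          ((congrArg (· ∈ oddCore _) (Subtype.ext (by simpa using hze) : z = g * d * g⁻¹ * d⁻¹)).mp hz)
        rw [map_mul, map_mul, map_mul, map_inv, map_inv, mul_inv_eq_one, mul_inv_eq_iff_eq_mul] at h3
        exact h3
    exact mem_centralizer_singleton_iff.1 (hle he)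

end Fib

end CfsgLib.TwoFusion.AbelianFactor
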